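import Groth.Agent.ZH85.Trace.TopTrace
import Groth.Agent.ZetaLib.ProjPoints

/-!
# Power sums of a form over a finite field
-/

universe u

set_option autoImplicit false

open MvPolynomial

namespace Groth.Agent.ZH85.Trace

noncomputable section

open Groth.Agent

variable {n : ℕ} {k : Type u} [Field k] [Fintype k]

theorem sum_pow_eq (e : ℕ) [DecidableEq k] :
    ∑ x : k, x ^ e = if 0 < e ∧ (Fintype.card k - 1) ∣ e then -1 else 0 := by
  rcases Nat.eq_zero_or_pos e with rfl | he
  · simp
  · rw [Fintype.sum_eq_add_sum_compl (0 : k), zero_pow he.ne', zero_add]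
    have h := FiniteField.sum_pow_units k e
    have hc : ∑ x ∈ ({0}ᶜ : Finset k), x ^ e = ∑ x : kˣ, (x : k) ^ e := by
      refine Finset.sum_bij' (fun x hx => Units.mk0 x (by simpa using hx)) (fun x _ => (x : k))
        (fun _ _ => Finset.mem_univ _) (fun x _ => by simp) (fun _ _ => rfl) (fun x _ => Units.ext rfl)
        (fun _ _ => rfl)
    rw [hc, h]
    simp only [he, true_and]

/-- The sum of the values of a form of degree `(q - 1)(n + 1 + j)`. -/
theorem sum_eval_eq (g : MvPolynomial (Fin (n + 1)) k) {j : ℕ}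
    (hg : g.IsHomogeneous ((Fintype.card k - 1) * (n + 1 + j))) :
    ∑ v : Fin (n + 1) → k, eval v g = (-1) ^ (n + 1) * trSum g (Fintype.card k - 1) j := by
  classical
  set m := Fintype.card k - 1 with hm
  have hm0 : 0 < m := by have := Fintype.one_lt_card (α := k); omega
  let φ : (Fin (n + 1) →₀ ℕ) → (Fin (n + 1) →₀ ℕ) := fun a =>
    Finsupp.equivFunOnFinite.symm fun i => m * (a i + 1)
  have hφ : Function.Injective φ := fun a b h => by
    ext i
    have h' := DFunLike.congr_fun h i
    simp only [φ, Finsupp.equivFunOnFinite_symm_apply_apply] at h'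
    have := Nat.eq_of_mul_eq_mul_left hm0 h'
    omega
  have h1 : ∀ e : Fin (n + 1) →₀ ℕ, ∑ v : Fin (n + 1) → k, ∏ i, v i ^ e i =
      if (∀ i, 0 < e i ∧ m ∣ e i) then (-1 : k) ^ (n + 1) else 0 := fun e => by
    rw [← Fintype.prod_sum (fun i (x : k) => x ^ e i)]
    simp only [sum_pow_eq, ← hm]
    split_ifs with h
    · rw [Finset.prod_congr rfl fun i _ => if_pos (h i), Finset.prod_const, Finset.card_univ, Fintype.card_fin]
    · obtain ⟨i, hi⟩ := not_forall.1 h
      exact Finset.prod_eq_zero (Finset.mem_univ i) (if_neg hi)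
  simp only [eval_eq']
  rw [Finset.sum_comm]
  simp only [← Finset.mul_sum, h1, mul_ite, mul_zero]
  rw [← Finset.sum_filter, ← Finset.sum_mul, mul_comm]
  congr 1
  rw [trSum, ← Finset.sum_image (f := fun e => coeff e g) (g := φ) hφ.injOn]
  refine Finset.sum_subset (fun e he => ?_) fun e he hne => ?_
  · obtain ⟨hsupp, hcond⟩ := Finset.mem_filter.1 he
    choose hpos b hb using hcond
    refine Finset.mem_image.2 ⟨Finsupp.equivFunOnFinite.symm fun i => b i - 1, mem_degSet.2 ?_, ?_⟩
    · have hd : e.degree = m * (n + 1 + j) := by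
        by_contra hne
        exact mem_support_iff.1 hsupp (hg.coeff_eq_zero hne)
      have hbpos : ∀ i, 1 ≤ b i := fun i => Nat.pos_of_ne_zero fun h0 => by
        have := hpos i; rw [hb i, h0, mul_zero] at this; omega
      rw [Finsupp.degree_eq_sum, Finset.sum_congr rfl fun i _ => hb i, ← Finset.mul_sum] at hd
      have hsum : ∑ i, b i = n + 1 + j := Nat.eq_of_mul_eq_mul_left hm0 hd
      rw [Finsupp.degree_eq_sum]
      have hsplit : ∑ i, b i = (∑ i, (b i - 1)) + (n + 1) := by
        rw [Finset.sum_congr rfl fun i _ => (Nat.sub_add_cancel (hbpos i)).symm, Finset.sum_add_distrib]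
        simp
      simp only [Finsupp.equivFunOnFinite_symm_apply_apply]
      omega
    · ext i
      simp only [φ, Finsupp.equivFunOnFinite_symm_apply_apply]
      have := hpos i
      rw [hb i] at this ⊢
      rw [Nat.sub_add_cancel (Nat.pos_of_ne_zero fun h0 => by rw [h0, mul_zero] at this; omega)]
  · by_contra h
    refine hne (Finset.mem_filter.2 ⟨mem_support_iff.2 h, fun i => ?_⟩)
    obtain ⟨a, -, rfl⟩ := Finset.mem_image.1 he
    simp only [φ, Finsupp.equivFunOnFinite_symm_apply_apply]
    exact ⟨Nat.mul_pos hm0 (Nat.succ_pos _), dvd_mul_right _ _⟩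

theorem eval_smul_form {g : MvPolynomial (Fin (n + 1)) k} {d : ℕ} (hg : g.IsHomogeneous d) (c : k)
    (v : Fin (n + 1) → k) : eval (c • v) g = c ^ d * eval v g := by
  simp only [eval_eq', Finset.mul_sum]
  refine Finset.sum_congr rfl fun e he => ?_
  have hd : e.degree = d := by
    by_contra hne
    exact mem_support_iff.1 he (hg.coeff_eq_zero hne)
  simp only [Pi.smul_apply, smul_eq_mul, mul_pow, Finset.prod_mul_distrib, Finset.prod_pow_eq_pow_sum,
    ← Finsupp.degree_eq_sum, hd]
  ring

open ZetaLib in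
/-- Sums over lines. -/
theorem sum_eval_eq_neg_sum_normalized (g : MvPolynomial (Fin (n + 1)) k) {d : ℕ}
    (hg : g.IsHomogeneous ((Fintype.card k - 1) * d)) (hd : 0 < d) [Fintype (Normalized n k)] :
    ∑ v : Fin (n + 1) → k, eval v g = - ∑ t : Normalized n k, eval t.2.1 g := by
  classical
  have hq := Fintype.one_lt_card (α := k)
  rw [Fintype.sum_eq_add_sum_compl (0 : Fin (n + 1) → k)]
  have h0 : eval (0 : Fin (n + 1) → k) g = 0 := by
    have := eval_smul_form hg 0 (0 : Fin (n + 1) → k)
    rwa [zero_smul, zero_pow (Nat.mul_pos (by omega) hd).ne', zero_mul] at this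
  rw [h0, zero_add]
  let T : kˣ × Normalized n k → (Fin (n + 1) → k) := fun p => (p.1 : k) • p.2.2.1
  have hT : ∀ p, T p ≠ 0 := fun p h => by
    have := congrFun h p.2.1
    simp [T, p.2.2.2.1] at this
  have hinj : Function.Injective T := by
    rintro ⟨c, i, v, hv, hv'⟩ ⟨c', i', w, hw, hw'⟩ h
    have hi : ∀ l, (c : k) * v l = (c' : k) * w l := fun l => congrFun h l
    obtain rfl : i = i' := by
      rcases lt_trichotomy i i' with hlt | he | hlt
      · have := hi i; rw [hv, hw' i hlt, _root_.mul_one, mul_zero] at this; exact absurd this c.ne_zero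
      · exact he
      · have := hi i'; rw [hw, hv' i' hlt, _root_.mul_one, mul_zero] at this; exact absurd this.symm c'.ne_zero
    obtain rfl : c = c' := Units.ext (by simpa [hv, hw] using hi i)
    obtain rfl : v = w := funext fun l => mul_left_cancel₀ c.ne_zero (hi l)
    rfl
  have hsurj : ∀ v : Fin (n + 1) → k, v ≠ 0 → ∃ p, T p = v := fun v hv => by
    obtain ⟨i₀, hi₀⟩ := Function.ne_iff.1 hv
    let S := Finset.univ.filter fun i => v i ≠ 0
    have hS : S.Nonempty := ⟨i₀, Finset.mem_filter.2 ⟨Finset.mem_univ _, hi₀⟩⟩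
    have hi := (Finset.mem_filter.1 (S.min'_mem hS)).2
    refine ⟨⟨Units.mk0 (v (S.min' hS)) hi, S.min' hS, fun l => (v (S.min' hS))⁻¹ * v l,
      inv_mul_cancel₀ hi, fun l hl => ?_⟩, funext fun l => ?_⟩
    · have : v l = 0 := by_contra fun h => not_le.2 hl (S.min'_le l (Finset.mem_filter.2 ⟨Finset.mem_univ _, h⟩))
      simp [this]
    · simp [T, hi]
  rw [Finset.sum_bij' (s := ({0}ᶜ : Finset (Fin (n + 1) → k))) (t := (Finset.univ : Finset (kˣ × Normalized n k)))
    (f := fun v => eval v g) (g := fun p => eval (T p) g)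
    (fun v hv => (hsurj v (by simpa using hv)).choose) (fun p _ => T p) (fun _ _ => Finset.mem_univ _)
    (fun p _ => by simpa using hT p) (fun v hv => (hsurj v (by simpa using hv)).choose_spec)
    (fun p _ => hinj (hsurj (T p) (hT p)).choose_spec)
    (fun v hv => by rw [(hsurj v (by simpa using hv)).choose_spec])]
  rw [Fintype.sum_prod_type]
  simp only [T, eval_smul_form hg]
  have hc : ∀ c : kˣ, ((c : k)) ^ ((Fintype.card k - 1) * d) = 1 := fun c => by
    rw [pow_mul, FiniteField.pow_card_sub_one_eq_one _ c.ne_zero, one_pow]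
  simp only [hc, _root_.one_mul, Finset.sum_const, Finset.card_univ, Fintype.card_units, nsmul_eq_mul]
  rw [Nat.cast_sub hq.le, FiniteField.cast_card_eq_zero]
  simp

end

end Groth.Agent.ZH85.Trace
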