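import Groth.Agent.ZH85.Trace.RangeIdeal
import Groth.Agent.ZetaLib.ProjPoints
import Groth.Agent.PnCoh.Chow.Proper

/-!
# Rational points of projective space in a closed subset
-/

universe u

set_option autoImplicit false
set_option backward.isDefEq.respectTransparency false
set_option backward.isDefEq.respectTransparency.types false

open CategoryTheory AlgebraicGeometry
open HomogeneousLocalization (Away)

namespace Groth.Agent.ZH85.Trace

noncomputable section

open Groth.Agent Groth.Agent.ZetaLib

variable (n : ℕ) (k : Type u) [Field k]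

local notation "𝒮" => CohB1.polyGrading n k
local notation "T" => (MvPolynomial.X : Fin (n + 1) → MvPolynomial (Fin (n + 1)) k)

/-- The point of a normalised vector. -/
def ptOf (t : Normalized n k) : CohB1.ProjSpace n k :=
  pointAt (k := k) t.1 t.2.1 t.2.2.1 (IsLocalRing.closedPoint k)

theorem exists_normalized_bijection :
    ∃ F : Normalized n k → {g : Spec (CommRingCat.of k) ⟶ CohB1.ProjSpace n k //
      g ≫ CohB1.ProjSpace.toSpec n k = Spec.map (CommRingCat.ofHom (algebraMap k k))},
      Function.Bijective F ∧ ∀ t, (F t).1 = pointAt (k := k) t.1 t.2.1 t.2.2.1 := by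
  classical
  have hover : ∀ (i : Fin (n + 1)) (φ : Away 𝒮 (T i) →+* k),
      (Spec.map (CommRingCat.ofHom φ) ≫ chart n k i) ≫ CohB1.ProjSpace.toSpec n k =
        Spec.map (CommRingCat.ofHom (algebraMap k k)) ↔ φ.comp (base n k i) = algebraMap k k := by
    intro i φ
    rw [Category.assoc, chart_toSpec, ← Spec.map_comp, Spec.map_inj, ← CommRingCat.ofHom_comp]
    exact ⟨fun h => congrArg CommRingCat.Hom.hom h, fun h => congrArg CommRingCat.ofHom h⟩
  let F : Normalized n k → {g : Spec (CommRingCat.of k) ⟶ CohB1.ProjSpace n k //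
      g ≫ CohB1.ProjSpace.toSpec n k = Spec.map (CommRingCat.ofHom (algebraMap k k))} :=
    fun t => ⟨pointAt t.1 t.2.1 t.2.2.1, (hover _ _).2 (evalAt_base _ _ _)⟩
  have hF : Function.Bijective F := by
    constructor
    · rintro ⟨i, v, hv, hv'⟩ ⟨j, w, hw, hw'⟩ h
      have h' : pointAt i v hv = pointAt j w hw := congrArg Subtype.val h
      have hiff : ∀ l, v l ≠ 0 ↔ w l ≠ 0 := fun l => by
        rw [← pointAt_mem_iff (k := k) i v hv, h', pointAt_mem_iff]
      obtain rfl : i = j := by
        rcases lt_trichotomy i j with hlt | he | hlt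
        · exact absurd (hw' i hlt) ((hiff i).1 (by rw [hv]; exact one_ne_zero))
        · exact he
        · exact absurd (hv' j hlt) ((hiff j).2 (by rw [hw]; exact one_ne_zero))
      have h2 := congrArg CommRingCat.Hom.hom (Spec.map_injective ((cancel_mono (chart n k i)).1 h'))
      obtain rfl : v = w := funext fun l => by
        rw [← evalAt_coord (k := k) i v hv l, ← evalAt_coord (k := k) i w hw l]
        exact RingHom.congr_fun h2 _
      rfl
    · rintro ⟨g, hg⟩
      let S := Finset.univ.filter fun i => g (IsLocalRing.closedPoint k) ∈ Set.range (chart n k i)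
      obtain ⟨i₀, hi₀⟩ := exists_mem_chart (n := n) (k := k) (g (IsLocalRing.closedPoint k))
      obtain ⟨i, hi, hmin⟩ : ∃ i, g (IsLocalRing.closedPoint k) ∈ Set.range (chart n k i) ∧
          ∀ j < i, g (IsLocalRing.closedPoint k) ∉ Set.range (chart n k j) :=
        ⟨S.min' ⟨i₀, Finset.mem_filter.2 ⟨Finset.mem_univ _, hi₀⟩⟩,
          (Finset.mem_filter.1 (S.min'_mem _)).2, fun j hj hjS =>
            (not_le.2 hj) (S.min'_le j (Finset.mem_filter.2 ⟨Finset.mem_univ _, hjS⟩))⟩
      have hsub : Set.range g ⊆ Set.range (chart n k i) := by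
        rintro _ ⟨y, rfl⟩
        obtain rfl : y = IsLocalRing.closedPoint k := Subsingleton.elim _ _
        exact hi
      obtain ⟨φ, hφ⟩ : ∃ φ : Away 𝒮 (T i) →+* k,
          Spec.map (CommRingCat.ofHom φ) ≫ chart n k i = g :=
        ⟨(Spec.preimage (IsOpenImmersion.lift (chart n k i) g hsub)).hom, by
          rw [CommRingCat.ofHom_hom, Spec.map_preimage, IsOpenImmersion.lift_fac]⟩
      have hb : φ.comp (base n k i) = algebraMap k k := (hover i φ).1 (by rw [hφ]; exact hg)
      have hii : φ (coord n k i i) = 1 := by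
        rw [← map_one φ]
        congr 1
        refine HomogeneousLocalization.val_injective _ ?_
        rw [coord, HomogeneousLocalization.Away.val_mk, HomogeneousLocalization.val_one,
          ← Localization.mk_self (⟨T i ^ 1, 1, rfl⟩ : Submonoid.powers (T i))]
        simp only [pow_one]
      have heq : pointAt i (fun l => φ (coord n k i l)) hii = g := by
        rw [pointAt, ringHom_eq_iff i (φ := evalAt i _ hii) (ψ := φ)
          (by rw [evalAt_base, hb]) fun l => evalAt_coord i _ hii l, hφ]
      refine ⟨⟨i, fun l => φ (coord n k i l), hii, fun j hj => ?_⟩, Subtype.ext heq⟩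
      by_contra hne
      have hm := (pointAt_mem_iff (k := k) i (fun l => φ (coord n k i l)) hii j).2 hne
      rw [heq] at hm
      exact hmin j hj hm
  exact ⟨F, hF, fun t => rfl⟩

variable {n k}

/-- The rational point lies on `V₊(f)` exactly when `f` vanishes at the vector. -/
theorem ptOf_mem_zeroSet_iff {D : ℕ} (hD : 0 < D) (f : CohB1.polyGrading n k D) (t : Normalized n k) :
    ptOf n k t ∈ zeroSet f ↔ MvPolynomial.eval t.2.1 f.1 = 0 := by
  obtain ⟨i, v, hv, hv'⟩ := t
  rw [← not_iff_not]
  show pointAt (k := k) i v hv (IsLocalRing.closedPoint k) ∈ Proj.basicOpen 𝒮 f.1 ↔ _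
  show Spec.map (CommRingCat.ofHom (evalAt (k := k) i v hv)) (IsLocalRing.closedPoint k) ∈
    Proj.awayι 𝒮 (T i) (X_mem_one n k i) Nat.one_pos ⁻¹ᵁ Proj.basicOpen 𝒮 f.1 ↔ _
  rw [Proj.awayι_preimage_basicOpen 𝒮 (X_mem_one n k i) Nat.one_pos f.2 hD]
  show evalAt (k := k) i v hv (HomogeneousLocalization.Away.isLocalizationElem (X_mem_one n k i) f.2) ∉
    IsLocalRing.maximalIdeal k ↔ _
  have he : HomogeneousLocalization.Away.isLocalizationElem (X_mem_one n k i) f.2 = dehom n k i f.1 := by
    apply HomogeneousLocalization.val_injective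
    have hu : IsUnit (algebraMap (MvPolynomial (Fin (n + 1)) k)
        (Localization (Submonoid.powers (T i))) (T i) ^ D) :=
      (IsLocalization.map_units _ (⟨T i, 1, pow_one _⟩ : Submonoid.powers (T i))).pow D
    refine hu.mul_left_injective ?_
    show _ * _ = _ * _
    rw [val_dehom_mul n k i f.2, HomogeneousLocalization.Away.val_mk, ← map_pow,
      ← Localization.mk_one_eq_algebraMap, ← Localization.mk_one_eq_algebraMap, Localization.mk_mul,
      Localization.mk_eq_mk_iff, Localization.r_iff_exists]
    exact ⟨1, by simp [mul_comm]⟩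
  have h2 : (evalAt (k := k) i v hv).comp (dehom n k i) = MvPolynomial.eval v :=
    MvPolynomial.ringHom_ext (fun c => by
      simp only [RingHom.comp_apply, dehom, MvPolynomial.eval₂Hom_C, MvPolynomial.eval_C]
      exact RingHom.congr_fun (evalAt_base i v hv) c) fun j => by
      simp only [RingHom.comp_apply, dehom, MvPolynomial.eval₂Hom_X', MvPolynomial.eval_X]
      exact evalAt_coord i v hv j
  rw [he, ← RingHom.comp_apply, h2, IsLocalRing.mem_maximalIdeal, mem_nonunits_iff, isUnit_iff_ne_zero,
    not_not]

/-- Points of a reduced closed subscheme, or of any closed subscheme. -/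
theorem pointCount_closed {X : Scheme.{u}} (ι : X ⟶ CohB1.ProjSpace n k) [IsClosedImmersion ι] :
    SgaExt.pointCount (ι ≫ CohB1.ProjSpace.toSpec n k) k =
      Nat.card {t : Normalized n k // ptOf n k t ∈ Set.range ι} := by
  obtain ⟨F, hF, hFt⟩ := exists_normalized_bijection n k
  haveI : IsReduced (Spec (CommRingCat.of k)) := inferInstance
  let Φ : {g : Spec (CommRingCat.of k) ⟶ X //
      g ≫ ι ≫ CohB1.ProjSpace.toSpec n k = Spec.map (CommRingCat.ofHom (algebraMap k k))} →
      {t : Normalized n k // ptOf n k t ∈ Set.range ι} := fun g =>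
    ⟨(Equiv.ofBijective F hF).symm ⟨g.1 ≫ ι, by rw [Category.assoc]; exact g.2⟩, by
      have h := congrArg Subtype.val ((Equiv.ofBijective F hF).apply_symm_apply
        ⟨g.1 ≫ ι, by rw [Category.assoc]; exact g.2⟩)
      refine ⟨g.1 (IsLocalRing.closedPoint k), ?_⟩
      show (g.1 ≫ ι) (IsLocalRing.closedPoint k) = ptOf n k _
      rw [ptOf, ← hFt]
      exact congrArg (fun φ : Spec (CommRingCat.of k) ⟶ CohB1.ProjSpace n k => φ (IsLocalRing.closedPoint k)) h.symm⟩
  refine Nat.card_congr (Equiv.ofBijective Φ ⟨fun g g' h => ?_, fun t => ?_⟩)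
  · have h1 := congrArg Subtype.val h
    have h2 := congrArg Subtype.val ((Equiv.ofBijective F hF).symm.injective h1)
    exact Subtype.ext ((cancel_mono ι).1 h2)
  · obtain ⟨⟨i, v, hv, hv'⟩, ht⟩ := t
    let P := pointAt (k := k) i v hv
    have hP : P ≫ CohB1.ProjSpace.toSpec n k = 𝟙 _ := by
      have h := (F ⟨i, v, hv, hv'⟩).2
      rw [hFt] at h
      refine h.trans ?_
      rw [show algebraMap k k = RingHom.id k from rfl]
      exact Spec.map_id _
    haveI : IsSeparated (CohB1.ProjSpace.toSpec n k) := by
      haveI : IsProper (CohB1.ProjSpace.toSpec n k) := PnCoh.Chow.isProper_toSpec n k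
      infer_instance
    haveI : IsClosedImmersion P := by
      haveI : IsClosedImmersion (P ≫ CohB1.ProjSpace.toSpec n k) := by rw [hP]; infer_instance
      exact IsClosedImmersion.of_comp P (CohB1.ProjSpace.toSpec n k)
    have hle : ι.ker ≤ P.ker := by
      haveI : IsReduced P.ker.subscheme := isReduced_of_isOpenImmersion (SurfInt.kerIso P).inv
      have h : P.ker = P.ker.radical := by
        refine le_antisymm P.ker.le_radical fun W s hs => ?_
        rw [Scheme.IdealSheafData.radical_ideal] at hs
        obtain ⟨m, hm⟩ := hs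
        rw [← P.ker.ker_subschemeι_app W, RingHom.mem_ker] at hm ⊢
        rw [map_pow] at hm
        exact IsReduced.eq_zero _ ⟨m, hm⟩
      rw [h, ← Scheme.IdealSheafData.vanishingIdeal_support, ← Scheme.IdealSheafData.le_support_iff_le_vanishingIdeal]
      intro z hz
      have hz' : z ∈ Set.range P := by
        have : z ∈ (P.ker.support : Set _) := hz
        rwa [Scheme.Hom.support_ker, P.isClosedEmbedding.isClosed_range.closure_eq] at this
      obtain ⟨w, rfl⟩ := hz'
      show P w ∈ (ι.ker.support : Set _)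
      rw [Scheme.Hom.support_ker, ι.isClosedEmbedding.isClosed_range.closure_eq,
        Subsingleton.elim w (IsLocalRing.closedPoint k)]
      exact ht
    let g := IsClosedImmersion.lift ι (pointAt (k := k) i v hv) hle
    have hg : g ≫ ι = pointAt (k := k) i v hv := IsClosedImmersion.lift_fac _ _ _
    have hFv := hFt ⟨i, v, hv, hv'⟩
    refine ⟨⟨g, by rw [← Category.assoc, hg, ← hFv]; exact (F ⟨i, v, hv, hv'⟩).2⟩, Subtype.ext ?_⟩
    refine (Equiv.ofBijective F hF).symm_apply_eq.2 (Subtype.ext ?_)
    exact hg.trans hFv.symm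

end

end Groth.Agent.ZH85.Trace
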