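import Groth.Agent.ZH85.Trace.Push
import Groth.Agent.ZH85.Trace.CW
import Groth.Agent.ZH85.Trace.Count

/-!
# Trace and point count as valuations on closed subsets of projective space
-/

universe u

set_option autoImplicit false
set_option backward.isDefEq.respectTransparency false
set_option backward.isDefEq.respectTransparency.types false
set_option linter.style.haveILetI false

open CategoryTheory CategoryTheory.Limits AlgebraicGeometry TopologicalSpace Opposite MvPolynomial

namespace Groth.Agent.ZH85.Trace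

noncomputable section

open Groth.Agent Groth.Agent.PnCoh Groth.Agent.ZetaLib

attribute [local instance] MvPolynomial.gradedAlgebra

variable (n : ℕ) (k : Type u) [Field k]

local notation "𝒮" => homogeneousSubmodule (Fin (n + 1)) k

instance isProper_overPS : IsProper ((PS (Fin (n + 1)) k) ↘ Spec (CommRingCat.of k)) :=
  PnCoh.Chow.isProper_toSpec n k

theorem vanish_PS {M : (PS (Fin (n + 1)) k).Modules} (hM : Coh.IsQCoh M) (i : ℕ) (hi : n + 1 ≤ i) :
    Subsingleton (Coh.HH (PS (Fin (n + 1)) k) M i) := by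
  haveI : IsProper ((PS (Fin (n + 1)) k) ↘ Spec (CommRingCat.of k)) := isProper_overPS n k
  haveI : (PS (Fin (n + 1)) k).IsSeparated := SurfInt.isSeparated_of_proper k
  refine QCoh.HH_subsingleton_of_cover (n + 1) (fun i => stdU (Fin (n + 1)) k ⟨i⟩)
    (fun i => isAffineOpen_mOpen (single_one_ne_zero i)) ?_ (fun V W hV hW => hV.inf hW) hM i hi
  rw [← iSup_stdU (ι := Fin (n + 1)) (R := k)]
  exact (Equiv.ulift.iSup_comp (g := fun i : Fin (n + 1) => stdU (Fin (n + 1)) k ⟨i⟩)).symm

variable [Finite k] {n k}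

/-- The underlying set of a closed subset. -/
def cs (Z : Closeds (PS (Fin (n + 1)) k)) : Set (ProjectiveSpectrum 𝒮) := Z.carrier

omit [Finite k] in
theorem cs_ext {Z W : Closeds (PS (Fin (n + 1)) k)} (h : cs Z = cs W) : Z = W :=
  Closeds.ext h

omit [Finite k] in
theorem cs_sup (Z W : Closeds (PS (Fin (n + 1)) k)) : cs (Z ⊔ W) = cs Z ∪ cs W := rfl

omit [Finite k] in
theorem cs_inf (Z W : Closeds (PS (Fin (n + 1)) k)) : cs (Z ⊓ W) = cs Z ∩ cs W := rfl

omit [Finite k] in
theorem cs_top : cs (⊤ : Closeds (PS (Fin (n + 1)) k)) = Set.univ := rfl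

/-- The Lefschetz number of a closed subset. -/
def Lc (N : ℕ) (Z : Closeds (PS (Fin (n + 1)) k)) : k :=
  lef k (Coh.structureModule (PS (Fin (n + 1)) k)) (powO k _) N -
    LI k N (Scheme.IdealSheafData.vanishingIdeal Z)

/-- The number of rational points of a closed subset, in `k`. -/
def Nc (Z : Set (ProjectiveSpectrum (homogeneousSubmodule (Fin (n + 1)) k))) : k :=
  (Nat.card {t : Normalized n k // ptOf n k t ∈ Z} : k)

omit [Finite k] in
theorem finite_normalized [Finite k] : Finite (Normalized n k) := inferInstance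

theorem Nc_union_inter (Z W : Set (ProjectiveSpectrum 𝒮)) :
    Nc (Z ∪ W) + Nc (Z ∩ W) = Nc Z + Nc W := by
  classical
  haveI := Fintype.ofFinite (Normalized n k)
  simp only [Nc, ← Nat.cast_add, Nat.card_eq_fintype_card, Fintype.card_subtype]
  congr 1
  rw [← Finset.card_union_add_card_inter
    (Finset.univ.filter fun t => ptOf n k t ∈ Z) (Finset.univ.filter fun t => ptOf n k t ∈ W),
    ← Finset.filter_or, ← Finset.filter_and]
  rfl

omit [Finite k] in
theorem support_vI {X : Scheme.{u}} (Z : Closeds X) :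
    (Scheme.IdealSheafData.vanishingIdeal Z).support = Z :=
  Closeds.ext (Scheme.IdealSheafData.coe_support_vanishingIdeal Z)

variable {N : ℕ} (hN : n + 1 ≤ N)

include hN

theorem vanish_hyp : ∀ M : (PS (Fin (n + 1)) k).Modules, Coh.IsQCoh M → ∀ i, N ≤ i →
    Subsingleton (Coh.HH (PS (Fin (n + 1)) k) M i) :=
  fun _ hM i hi => vanish_PS n k hM i (hN.trans hi)

theorem LI_eq_vanishing (I : (PS (Fin (n + 1)) k).IdealSheafData) :
    LI k N I = LI k N (Scheme.IdealSheafData.vanishingIdeal I.support) := by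
  rw [Scheme.IdealSheafData.vanishingIdeal_support]
  exact LI_eq_of_le_radical (vanish_hyp hN) I.le_radical le_rfl

theorem Lc_union_inter (Z W : Closeds (PS (Fin (n + 1)) k)) :
    Lc N (Z ⊔ W) + Lc N (Z ⊓ W) = Lc N Z + Lc N W := by
  have h := LI_inf_add_sup (k := k) (vanish_hyp hN) (Scheme.IdealSheafData.vanishingIdeal Z)
    (Scheme.IdealSheafData.vanishingIdeal W)
  have hs : LI k N (Scheme.IdealSheafData.vanishingIdeal Z ⊔ Scheme.IdealSheafData.vanishingIdeal W) =
      LI k N (Scheme.IdealSheafData.vanishingIdeal (Z ⊓ W)) := by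
    rw [LI_eq_vanishing hN (Scheme.IdealSheafData.vanishingIdeal Z ⊔ Scheme.IdealSheafData.vanishingIdeal W),
      Scheme.IdealSheafData.support_sup, support_vI, support_vI]
  rw [← Scheme.IdealSheafData.vanishingIdeal_sup, hs] at h
  simp only [Lc]
  linear_combination (-1 : k) * h

theorem lef_powO : lef k (Coh.structureModule (PS (Fin (n + 1)) k)) (powO k _) N = 1 := by
  haveI := CurveCohLib.isNoetherian_of_proper (k := k) (X := PS (Fin (n + 1)) k)
  haveI : ∀ i, 1 ≤ i → Subsingleton (Coh.HH (PS (Fin (n + 1)) k) (Coh.structureModule _) i) := fun i hi => by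
    obtain ⟨q, rfl⟩ := Nat.exists_eq_add_of_le hi
    rw [add_comm 1 q]
    exact subsingleton_HH_structureModule (ι := Fin (n + 1)) (R := k) QCoh.isQCoh_structureModule q
  rw [lef_eq_of_le _ _ (show 1 ≤ N by omega) this, lef, Finset.sum_range_one, pow_zero, _root_.one_mul,
    trH_eq isScal_powO]
  let e₀ := Sheaf.H.equiv₀ (Coh.toAb (Coh.structureModule (PS (Fin (n + 1)) k))) isTerminalTop
  have hbij := bijective_toSpecR_appTop (ι := Fin (n + 1)) (R := k)
  have hglob : Function.Bijective (Coh.toGlobal ((PS (Fin (n + 1)) k) ↘ Spec (CommRingCat.of k))) :=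
    hbij.comp (ConcreteCategory.bijective_of_isIso (Scheme.ΓSpecIso (CommRingCat.of k)).inv)
  have hlin : lin (isScal_powO (k := k) (X := PS (Fin (n + 1)) k)) 0 = LinearMap.id := by
    refine LinearMap.ext fun x => e₀.injective ?_
    rw [lin_apply]
    refine (Sheaf.H.equiv₀_naturality isTerminalTop (powO k (PS (Fin (n + 1)) k)) x).symm.trans ?_
    obtain ⟨a, ha⟩ := hglob.2 (e₀ x)
    refine (powO_app (⊤ : (PS (Fin (n + 1)) k).Opens) (e₀ x)).trans ?_
    show (show Γ(PS (Fin (n + 1)) k, ⊤) from e₀ x) ^ Nat.card k = e₀ x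
    rw [← ha]
    refine (map_pow _ a _).symm.trans ?_
    cases nonempty_fintype k
    rw [Nat.card_eq_fintype_card, FiniteField.pow_card]
    rfl
  haveI := CurveCohLib.finite_HH (k := k) (QCoh.isCoh_structureModule' (X := PS (Fin (n + 1)) k)) 0
  rw [hlin, LinearMap.trace_id]
  obtain ⟨one, hone⟩ : ∃ one, e₀ one = (show Γ(PS (Fin (n + 1)) k, ⊤) from 1) := ⟨e₀.symm _, e₀.apply_symm_apply _⟩
  have hsmul : ∀ (a : k) (x : Coh.HH (PS (Fin (n + 1)) k) (Coh.structureModule _) 0),
      (show Γ(PS (Fin (n + 1)) k, ⊤) from e₀ (a • x)) =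
        (show Γ(PS (Fin (n + 1)) k, ⊤) from
          Coh.toGlobal ((PS (Fin (n + 1)) k) ↘ Spec (CommRingCat.of k)) a) *
          (show Γ(PS (Fin (n + 1)) k, ⊤) from e₀ x) := fun a x => by
    refine (Sheaf.H.equiv₀_naturality isTerminalTop (Coh.smulAb (Coh.structureModule (PS (Fin (n + 1)) k))
      (Coh.toGlobal ((PS (Fin (n + 1)) k) ↘ Spec (CommRingCat.of k)) a)) x).symm.trans ?_
    exact congrArg (· * (show Γ(PS (Fin (n + 1)) k, ⊤) from e₀ x))
      (ConcreteCategory.congr_hom ((PS (Fin (n + 1)) k).presheaf.map_id _) _)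
  have hfr : Module.finrank k (Coh.HH (PS (Fin (n + 1)) k) (Coh.structureModule _) 0) = 1 := by
    refine (LinearEquiv.ofBijective (LinearMap.toSpanSingleton k _ one) ⟨fun a b h => ?_, fun x => ?_⟩).finrank_eq.symm.trans
      (Module.finrank_self k)
    · have h1 := congrArg (fun z => (show Γ(PS (Fin (n + 1)) k, ⊤) from e₀ z)) h
      simp only [LinearMap.toSpanSingleton_apply] at h1
      have h2 := (hsmul a one).symm.trans (h1.trans (hsmul b one))
      rw [hone, _root_.mul_one, _root_.mul_one] at h2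
      exact hglob.1 h2
    · obtain ⟨a, ha⟩ := hglob.2 (e₀ x)
      refine ⟨a, e₀.injective ?_⟩
      refine (hsmul a one).trans ?_
      rw [hone, _root_.mul_one]
      exact ha
  rw [hfr, Nat.cast_one]

theorem Lc_univ : Lc N (⊤ : Closeds (PS (Fin (n + 1)) k)) = 1 := by
  have h := lef_subscheme (k := k) (𝟙 (PS (Fin (n + 1)) k)) (Category.id_comp _) (vanish_hyp hN)
  have hker : Scheme.Hom.ker (𝟙 (PS (Fin (n + 1)) k)) = ⊥ := Scheme.Hom.ker_eq_bot_of_isIso _
  rw [hker] at h
  rw [Lc, ← lef_powO hN, ← Scheme.IdealSheafData.support_bot, ← LI_eq_vanishing hN]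
  exact h.symm

omit hN in
theorem Nc_univ : Nc (Set.univ : Set (ProjectiveSpectrum 𝒮)) = 1 := by
  classical
  obtain ⟨F, hF, -⟩ := exists_normalized_bijection n k
  have h : Nat.card (Normalized n k) = ∑ i ∈ Finset.range (n + 1), Nat.card k ^ i :=
    (Nat.card_congr (Equiv.ofBijective F hF)).trans (card_points n k k)
  rw [Nc, Nat.card_congr (Equiv.subtypeUnivEquiv fun t => Set.mem_univ (ptOf n k t)), h, Nat.cast_sum,
    Finset.sum_range_succ', pow_zero, Nat.cast_one, add_eq_right]
  refine Finset.sum_eq_zero fun i _ => ?_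
  cases nonempty_fintype k
  rw [Nat.cast_pow, Nat.card_eq_fintype_card, FiniteField.cast_card_eq_zero, zero_pow (Nat.succ_ne_zero i)]

/-- The closed set of a form. -/
def zeroCl {D : ℕ} (f : homogeneousSubmodule (Fin (n + 1)) k D) : Closeds (PS (Fin (n + 1)) k) :=
  (formIdeal f (isQCoh_twist_mvPolynomial (Fin (n + 1)) k _)).support

omit hN in
theorem coe_zeroCl {D : ℕ} (f : homogeneousSubmodule (Fin (n + 1)) k D) :
    cs (zeroCl f) = zeroSet f := rfl

theorem Lc_hypersurface {j : ℕ} (f : homogeneousSubmodule (Fin (n + 1)) k (n + 1 + j)) :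
    Lc N (zeroCl f) = Nc (zeroSet f) := by
  classical
  cases nonempty_fintype k
  haveI := Fintype.ofFinite (Normalized n k)
  by_cases hf : f.1 = 0
  · have h1 : zeroSet f = (Set.univ : Set (ProjectiveSpectrum 𝒮)) := Set.eq_univ_of_forall fun x => by
      show f.1 ∈ (x : ProjectiveSpectrum 𝒮).asHomogeneousIdeal
      rw [hf]
      exact zero_mem _
    have h2 : zeroCl f = ⊤ := cs_ext (((coe_zeroCl f).trans h1).trans cs_top.symm)
    rw [h1, h2, Lc_univ hN, Nc_univ]
  have hL : Lc N (zeroCl f) = 1 - (-1) ^ n * trSum (f.1 ^ (Nat.card k - 1)) (Nat.card k - 1) j := by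
    rw [Lc, lef_powO hN, zeroCl, ← LI_eq_vanishing hN, formIdeal,
      ← lef_eq_LI (mulForm f) (isQCoh_twist_mvPolynomial (Fin (n + 1)) k _) (zeroSet f) _
        (mulForm_app_injective f hf)]
    rw [show subPow k (mulForm f) (mulForm_app_injective f hf) = powForm f hf from rfl,
      lef_powForm f hf (Nat.lt_of_succ_le hN)]
  rw [hL]
  set q := Fintype.card k with hq
  rw [Nat.card_eq_fintype_card, ← hq]
  have hq1 : 1 < q := Fintype.one_lt_card
  have hhom : (f.1 ^ (q - 1)).IsHomogeneous ((q - 1) * (n + 1 + j)) := by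
    have h := (show f.1.IsHomogeneous (n + 1 + j) from f.2).pow (q - 1)
    rwa [mul_comm] at h
  have h1 := sum_eval_eq (f.1 ^ (q - 1)) hhom
  have h2 := sum_eval_eq_neg_sum_normalized (f.1 ^ (q - 1)) hhom (by omega)
  have h3 : ∑ t : Normalized n k, eval t.2.1 (f.1 ^ (q - 1)) = 1 - Nc (zeroSet f) := by
    have hpt : ∀ t : Normalized n k, eval t.2.1 (f.1 ^ (q - 1)) = if ptOf n k t ∈ zeroSet f then 0 else 1 := fun t => by
      rw [map_pow]
      split_ifs with h
      · rw [(ptOf_mem_zeroSet_iff (Nat.add_pos_left (Nat.succ_pos n) j) f t).1 h, zero_pow (by omega)]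
      · exact FiniteField.pow_card_sub_one_eq_one _
          (fun h0 => h ((ptOf_mem_zeroSet_iff (Nat.add_pos_left (Nat.succ_pos n) j) f t).2 h0))
    simp only [hpt, Finset.sum_ite, Finset.sum_const_zero, zero_add, Finset.sum_const, nsmul_eq_mul, _root_.mul_one]
    have hu := Nc_univ (n := n) (k := k)
    simp only [Nc, Set.mem_univ, Nat.card_eq_fintype_card, Fintype.card_subtype, Finset.filter_true] at hu ⊢
    rw [← hu, eq_sub_iff_add_eq, ← Nat.cast_add, add_comm, Finset.card_filter_add_card_filter_not]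
  rw [h3, h1] at h2
  linear_combination h2

/-- Every intersection of hypersurfaces. -/
theorem Lc_eq_Nc_inter : ∀ (r : ℕ) (F : Fin r → Σ j : ℕ, homogeneousSubmodule (Fin (n + 1)) k (n + 1 + j))
    (Z : Closeds (PS (Fin (n + 1)) k)), cs Z = ⋂ i, zeroSet (F i).2 →
    Lc N Z = Nc (cs Z) := by
  intro r
  induction r with
  | zero =>
    intro F Z hZ
    rw [Set.iInter_of_empty] at hZ
    rw [show Z = ⊤ from cs_ext (hZ.trans cs_top.symm), Lc_univ hN, cs_top]
    exact (Nc_univ (n := n) (k := k)).symm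
  | succ r ih =>
    intro F Z hZ
    let B : Closeds (PS (Fin (n + 1)) k) := ⨅ i : Fin r, zeroCl (F i.succ).2
    have hB : cs B = ⋂ i : Fin r, zeroSet (F i.succ).2 :=
      (Closeds.coe_iInf fun i : Fin r => zeroCl (F i.succ).2).trans (Set.iInter_congr fun i => coe_zeroCl _)
    let G : Fin r → Σ j : ℕ, homogeneousSubmodule (Fin (n + 1)) k (n + 1 + j) := fun i =>
      ⟨(F i.succ).1 + (n + 1) + (F 0).1, ⟨(F i.succ).2.1 * (F 0).2.1, by
        have h := (show (F i.succ).2.1.IsHomogeneous _ from (F i.succ).2.2).mul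
          (show (F 0).2.1.IsHomogeneous _ from (F 0).2.2)
        rwa [show n + 1 + (F i.succ).1 + (n + 1 + (F 0).1) = n + 1 + ((F i.succ).1 + (n + 1) + (F 0).1) by ring] at h⟩⟩
    have hGz : ∀ i, zeroSet (G i).2 = zeroSet (F i.succ).2 ∪ zeroSet (F 0).2 := fun i => by
      ext x
      exact ⟨fun h => (x : ProjectiveSpectrum 𝒮).isPrime.mem_or_mem h,
        fun h => h.elim (Ideal.mul_mem_right _ _) (Ideal.mul_mem_left _ _)⟩
    have hU : cs (B ⊔ zeroCl (F 0).2) = ⋂ i, zeroSet (G i).2 := by
      rw [cs_sup, hB, coe_zeroCl, Set.iInter_union]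
      exact Set.iInter_congr fun i => (hGz i).symm
    have hI : Z = B ⊓ zeroCl (F 0).2 := cs_ext (by
      rw [hZ, cs_inf, hB, coe_zeroCl]
      ext x
      simp only [Set.mem_iInter, Set.mem_inter_iff, Fin.forall_fin_succ]
      exact and_comm)
    have h1 := Lc_union_inter hN B (zeroCl (F 0).2)
    have h2 := Nc_union_inter (n := n) (k := k) (cs B) (zeroSet (F 0).2)
    rw [ih G _ hU, ih _ B hB, Lc_hypersurface hN, cs_sup, coe_zeroCl] at h1
    rw [hI, cs_inf, coe_zeroCl]
    exact add_left_cancel (h1.trans h2.symm)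

omit hN [Finite k] in
/-- Closed subsets are cut out by finitely many forms of large degree. -/
theorem exists_forms (Z : Set (ProjectiveSpectrum 𝒮)) (hZ : IsClosed Z) :
    ∃ (r : ℕ) (F : Fin r → Σ j : ℕ, homogeneousSubmodule (Fin (n + 1)) k (n + 1 + j)),
      Z = ⋂ i, zeroSet (F i).2 := by
  classical
  obtain ⟨s, rfl⟩ := (ProjectiveSpectrum.isClosed_iff_zeroLocus 𝒮 Z).1 hZ
  let C : Set (MvPolynomial (Fin (n + 1)) k) := {c | ∃ p ∈ s, ∃ d, c = homogeneousComponent d p}
  obtain ⟨t, htC, hspan⟩ : ∃ t : Finset (MvPolynomial (Fin (n + 1)) k), ↑t ⊆ C ∧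
      Ideal.span (t : Set (MvPolynomial (Fin (n + 1)) k)) = Ideal.span C := by
    obtain ⟨t, ht, hsp⟩ := (Submodule.fg_span_iff_fg_span_finset_subset C).1
      (IsNoetherian.noetherian (Ideal.span C))
    exact ⟨t, ht, hsp.symm⟩
  have hdeg : ∀ c : t, ∃ d, c.1.IsHomogeneous d := fun c => by
    obtain ⟨p, -, d, hd⟩ := htC c.2
    exact ⟨d, hd ▸ homogeneousComponent_isHomogeneous d p⟩
  choose d hd using hdeg
  let e : Fin (Fintype.card (t × Fin (n + 1))) ≃ t × Fin (n + 1) := (Fintype.equivFin _).symm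
  refine ⟨_, fun l => ⟨d (e l).1, ⟨(e l).1.1 * X (e l).2 ^ (n + 1), by
    have h := (hd (e l).1).mul ((isHomogeneous_X k (e l).2).pow (n + 1))
    rwa [_root_.one_mul, add_comm (d _)] at h⟩⟩, ?_⟩
  ext x
  simp only [Set.mem_iInter]
  refine ⟨fun hx l => Ideal.mul_mem_right _ _ ?_, fun hx => ?_⟩
  · obtain ⟨p, hp, d', hd'⟩ := htC (e l).1.2
    rw [hd', ← MvPolynomial.decomposition.decompose'_apply p d']
    exact x.asHomogeneousIdeal.2 d' (hx hp)
  · obtain ⟨i, hi⟩ : ∃ i : Fin (n + 1), (X i : MvPolynomial (Fin (n + 1)) k) ∉ x.asHomogeneousIdeal := by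
      by_contra h
      push Not at h
      refine x.not_irrelevant_le fun p hp => ?_
      have hp' : p ∈ Ideal.span (Set.range (X : Fin (n + 1) → MvPolynomial (Fin (n + 1)) k)) := by
        rw [← Set.image_univ, MvPolynomial.mem_ideal_span_X_image]
        intro m hm
        by_contra! hno
        have : m = 0 := Finsupp.ext fun i => hno i (Set.mem_univ i)
        subst this
        refine MvPolynomial.mem_support_iff.1 hm ?_
        have hp' := (HomogeneousIdeal.mem_irrelevant_iff 𝒮 p).1 hp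
        rw [GradedRing.proj_apply] at hp'
        have h0 : homogeneousComponent 0 p = 0 :=
          (MvPolynomial.decomposition.decompose'_apply p 0).symm.trans hp'
        rw [homogeneousComponent_zero] at h0
        exact C_eq_zero.1 h0
      exact Ideal.span_le.2 (by rintro _ ⟨i, rfl⟩; exact h i) hp'
    have hC : ∀ c ∈ C, c ∈ x.asHomogeneousIdeal.toIdeal := by
      have hle : Ideal.span (t : Set (MvPolynomial (Fin (n + 1)) k)) ≤ x.asHomogeneousIdeal.toIdeal :=
        Ideal.span_le.2 fun c hc => by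
          have h := hx (e.symm (⟨c, hc⟩, i))
          simp only [Equiv.apply_symm_apply] at h
          exact (x.isPrime.mem_or_mem h).resolve_right fun h' => hi (x.isPrime.mem_of_pow_mem _ h')
      rw [hspan] at hle
      exact fun c hc => hle (Ideal.subset_span hc)
    intro p hp
    show p ∈ x.asHomogeneousIdeal.toIdeal
    rw [← sum_homogeneousComponent p]
    exact Ideal.sum_mem _ fun d' _ => hC _ ⟨p, hp, d', rfl⟩

/-- The trace formula for every closed subset. -/
theorem Lc_eq_Nc (Z : Closeds (PS (Fin (n + 1)) k)) : Lc N Z = Nc (cs Z) := by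
  obtain ⟨r, F, hF⟩ := exists_forms (n := n) (k := k) (cs Z) Z.2
  exact Lc_eq_Nc_inter hN r F Z hF

/-- The trace formula for a closed subscheme. -/
theorem lef_closed {X : Scheme.{u}} [X.Over (Spec (CommRingCat.of k))] (ι : X ⟶ PS (Fin (n + 1)) k)
    [IsClosedImmersion ι] (hι : ι ≫ toSpecR (Fin (n + 1)) k = X ↘ Spec (CommRingCat.of k)) :
    lef k (Coh.structureModule X) (powO k X) N =
      Nc (Set.range ι : Set (ProjectiveSpectrum 𝒮)) := by
  rw [lef_subscheme (k := k) ι hι (vanish_hyp hN), LI_eq_vanishing hN]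
  refine (Lc_eq_Nc hN ι.ker.support).trans (congrArg Nc ?_)
  show SetLike.coe ι.ker.support = Set.range ι
  rw [Scheme.Hom.support_ker, ι.isClosedEmbedding.isClosed_range.closure_eq]

end

end Groth.Agent.ZH85.Trace
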