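import Groth.Agent.ZH85.Trace.SubPow
import Groth.Agent.SurfInt.Inter
import Groth.Agent.SurfInt.Curve
import Groth.Agent.SurfInt.Restrict

/-!
# The alternating trace of the `q`-th power on ideal sheaves

It is modular in the ideal and only depends on the support.
-/

universe u

set_option autoImplicit false
set_option backward.isDefEq.respectTransparency false
set_option backward.isDefEq.respectTransparency.types false
set_option linter.style.haveILetI false

open CategoryTheory CategoryTheory.Limits AlgebraicGeometry TopologicalSpace Opposite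

namespace Groth.Agent.ZH85.Trace

noncomputable section

open Groth.Agent

variable {k : Type u} [Field k] [Finite k] {X : Scheme.{u}} [X.Over (Spec (CommRingCat.of k))]
  [IsProper (X ↘ Spec (CommRingCat.of k))]

variable (k) in
/-- The `q`-th power on an ideal sheaf. -/
def powI (I : X.IdealSheafData) : Coh.toAb (ClSub.idealMod I) ⟶ Coh.toAb (ClSub.idealMod I) :=
  subPow k (ClSub.idealModι I) fun U => OmegaSh.idealModι_app_injective U I

omit [IsProper (X ↘ Spec (CommRingCat.of k))] in
theorem isScal_powI (I : X.IdealSheafData) : IsScal k (ClSub.idealMod I) (powI k I) :=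
  isScal_subPow _ _

variable (k) in
/-- The alternating trace on an ideal sheaf. -/
def LI (N : ℕ) (I : X.IdealSheafData) : k := lef k (ClSub.idealMod I) (powI k I) N

omit [IsProper (X ↘ Spec (CommRingCat.of k))] in
theorem powI_comp_incl {I K : X.IdealSheafData} (h : I ≤ K) :
    powI k I ≫ (QCoh.toAbFunctor X).map (SurfInt.inclMap h) =
      (QCoh.toAbFunctor X).map (SurfInt.inclMap h) ≫ powI k K :=
  subPow_comp _ _ _ _ _ (SurfInt.inclMap_ι h)

omit [X.Over (Spec (CommRingCat.of k))] [IsProper (X ↘ Spec (CommRingCat.of k))] in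
theorem mono_inclMap {I K : X.IdealSheafData} (h : I ≤ K) : Mono (SurfInt.inclMap h) := by
  haveI : Mono (SurfInt.inclMap h ≫ ClSub.idealModι K) := by
    rw [SurfInt.inclMap_ι]
    exact inferInstanceAs (Mono (kernel.ι _))
  exact mono_of_mono _ (ClSub.idealModι K)

/-- The cokernel sequence of an inclusion of ideals. -/
def inclSeq {I K : X.IdealSheafData} (h : I ≤ K) : ShortComplex X.Modules :=
  ShortComplex.mk (SurfInt.inclMap h) (cokernel.π _) (cokernel.condition _)

omit [X.Over (Spec (CommRingCat.of k))] [IsProper (X ↘ Spec (CommRingCat.of k))] in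
theorem inclSeq_shortExact {I K : X.IdealSheafData} (h : I ≤ K) : (inclSeq h).ShortExact where
  exact := ShortComplex.exact_of_g_is_cokernel _ (cokernelIsCokernel (SurfInt.inclMap h))
  mono_f := mono_inclMap h
  epi_g := inferInstanceAs (Epi (cokernel.π _))

include k in
omit [Finite k] in
theorem isCoh_cokernel_incl {I K : X.IdealSheafData} (h : I ≤ K) : Coh.IsCoh (inclSeq h).X₃ := by
  haveI := CurveCohLib.isNoetherian_of_proper (k := k) (X := X)
  exact QCoh.isCoh_cokernel (SurfInt.isCoh_idealMod I).1 (SurfInt.isCoh_idealMod K) (SurfInt.inclMap h)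

/-- The induced map on the quotient of two ideals. -/
theorem exists_powQ {I K : X.IdealSheafData} (h : I ≤ K) :
    ∃ φ : Coh.toAb (inclSeq h).X₃ ⟶ Coh.toAb (inclSeq h).X₃,
      powI k K ≫ (QCoh.toAbFunctor X).map (inclSeq h).g =
        (QCoh.toAbFunctor X).map (inclSeq h).g ≫ φ ∧ IsScal k (inclSeq h).X₃ φ := by
  have hT := QCoh.toAb_shortExact (inclSeq_shortExact h)
  have hz : (QCoh.toAbFunctor X).map (SurfInt.inclMap h) ≫ powI k K ≫
      (QCoh.toAbFunctor X).map (inclSeq h).g = 0 := by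
    rw [← Category.assoc, ← powI_comp_incl h, Category.assoc]
    exact (congrArg (powI k I ≫ ·) (((inclSeq h).map (QCoh.toAbFunctor X)).zero)).trans comp_zero
  let φ := hT.gIsCokernel.desc (CokernelCofork.ofπ _ hz)
  have hφ : (QCoh.toAbFunctor X).map (inclSeq h).g ≫ φ =
      powI k K ≫ (QCoh.toAbFunctor X).map (inclSeq h).g :=
    hT.gIsCokernel.fac _ WalkingParallelPair.one
  haveI : Epi (inclSeq h).g := (inclSeq_shortExact h).epi_g
  exact ⟨φ, hφ.symm, isScal_of_epi (inclSeq h).g (isScal_powI K) hφ.symm⟩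

variable {N : ℕ} (hN : ∀ M : X.Modules, Coh.IsQCoh M → ∀ i, N ≤ i → Subsingleton (Coh.HH X M i))

include hN

theorem lef_quotient {I K : X.IdealSheafData} (h : I ≤ K)
    {φ : Coh.toAb (inclSeq h).X₃ ⟶ Coh.toAb (inclSeq h).X₃}
    (hc : powI k K ≫ (QCoh.toAbFunctor X).map (inclSeq h).g =
      (QCoh.toAbFunctor X).map (inclSeq h).g ≫ φ) (hs : IsScal k (inclSeq h).X₃ φ) :
    LI k N K = LI k N I + lef k (inclSeq h).X₃ φ N := by
  haveI := CurveCohLib.isNoetherian_of_proper (k := k) (X := X)
  exact lef_add (inclSeq_shortExact h) (SurfInt.isCoh_idealMod I) (SurfInt.isCoh_idealMod K)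
    (isCoh_cokernel_incl (k := k) h) (isScal_powI I) (isScal_powI K) hs (powI_comp_incl h) hc N
    (hN _ (SurfInt.isCoh_idealMod I).1 N le_rfl)

/-- Modularity. -/
theorem LI_inf_add_sup (I J : X.IdealSheafData) :
    LI k N (I ⊓ J) + LI k N (I ⊔ J) = LI k N I + LI k N J := by
  haveI := CurveCohLib.isNoetherian_of_proper (k := k) (X := X)
  obtain ⟨φ, hc, hs⟩ := exists_powQ (k := k) (le_sup_right : J ≤ I ⊔ J)
  have h1 := lef_quotient hN (le_sup_right : J ≤ I ⊔ J) hc hs
  have hc' : powI k I ≫ (QCoh.toAbFunctor X).map (SurfInt.infSeq I J).g =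
      (QCoh.toAbFunctor X).map (SurfInt.infSeq I J).g ≫ φ := by
    show _ ≫ (QCoh.toAbFunctor X).map (SurfInt.inclMap (le_sup_left : I ≤ I ⊔ J) ≫ (inclSeq _).g) =
      (QCoh.toAbFunctor X).map (SurfInt.inclMap (le_sup_left : I ≤ I ⊔ J) ≫ (inclSeq _).g) ≫ φ
    rw [Functor.map_comp, ← Category.assoc, powI_comp_incl, Category.assoc, hc, ← Category.assoc]
  have h2 : LI k N I = LI k N (I ⊓ J) + lef k (inclSeq (le_sup_right : J ≤ I ⊔ J)).X₃ φ N :=
    lef_add (SurfInt.infSeq_shortExact I J) (SurfInt.isCoh_idealMod _) (SurfInt.isCoh_idealMod I)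
      (isCoh_cokernel_incl (k := k) (le_sup_right : J ≤ I ⊔ J)) (isScal_powI _) (isScal_powI I) hs
      (powI_comp_incl (inf_le_left : I ⊓ J ≤ I)) hc' N (hN _ (SurfInt.isCoh_idealMod _).1 N le_rfl)
  rw [h1, h2]
  ring

/-- Only the support matters. -/
theorem LI_eq_of_le_radical {I K : X.IdealSheafData} (h : I ≤ K) (hr : K ≤ I.radical) :
    LI k N I = LI k N K := by
  haveI := CurveCohLib.isNoetherian_of_proper (k := k) (X := X)
  obtain ⟨φ, hc, hs⟩ := exists_powQ (k := k) h
  suffices ∃ m : ℕ, ((CategoryTheory.End.of φ) ^ m : CategoryTheory.End (Coh.toAb (inclSeq h).X₃)) = 0 by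
    obtain ⟨m, hm⟩ := this
    haveI := fun i => CurveCohLib.finite_HH (k := k) (isCoh_cokernel_incl (k := k) h) i
    rw [lef_quotient hN h hc hs, lef_eq_zero_of_nilpotent hs m hm, add_zero]
  -- a uniform exponent
  obtain ⟨e, he⟩ : ∃ e : ℕ, K ^ e ≤ I := by
    obtain ⟨s, hs⟩ : ∃ s : Finset X.affineOpens, ⨆ U : s, (U.1.1 : X.Opens) = ⊤ := by
      obtain ⟨t, ht⟩ := isCompact_univ.elim_finite_subcover (fun U : X.affineOpens => (U.1 : Set X))
        (fun U => U.1.2) fun x _ => by
          obtain ⟨W, hW, hxW, -⟩ := exists_isAffineOpen_mem_and_subset (U := (⊤ : X.Opens)) (x := x) trivial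
          exact Set.mem_iUnion.2 ⟨⟨W, hW⟩, hxW⟩
      refine ⟨t, top_le_iff.1 fun x _ => ?_⟩
      obtain ⟨U, hU, hx⟩ := Set.mem_iUnion₂.1 (ht (Set.mem_univ x))
      exact Opens.mem_iSup.2 ⟨⟨U, hU⟩, hx⟩
    have hex : ∀ U : X.affineOpens, ∃ e, K.ideal U ^ e ≤ I.ideal U := fun U => by
      haveI : IsNoetherianRing Γ(X, U.1) := IsLocallyNoetherian.component_noetherian U
      exact Ideal.exists_pow_le_of_le_radical_of_fg (hr U) (IsNoetherian.noetherian _)
    choose e he using hex
    refine ⟨s.sup e, Scheme.IdealSheafData.le_of_iSup_eq_top (fun U : s => U.1) hs fun U => ?_⟩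
    rw [Scheme.IdealSheafData.ideal_pow]
    exact le_trans (Ideal.pow_le_pow_right (Finset.le_sup U.2)) (he U.1)
  refine ⟨e, ?_⟩
  haveI : Epi ((QCoh.toAbFunctor X).map (inclSeq h).g) := (QCoh.toAb_shortExact (inclSeq_shortExact h)).epi_g
  have hit : ∀ m : ℕ,
      ((CategoryTheory.End.of (powI k K)) ^ m : CategoryTheory.End (Coh.toAb (ClSub.idealMod K))) ≫
        (QCoh.toAbFunctor X).map (inclSeq h).g =
      (QCoh.toAbFunctor X).map (inclSeq h).g ≫
        ((CategoryTheory.End.of φ) ^ m : CategoryTheory.End (Coh.toAb (inclSeq h).X₃)) := fun m => by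
    induction m with
    | zero =>
      rw [pow_zero, pow_zero]
      exact (Category.id_comp _).trans (Category.comp_id _).symm
    | succ m ih =>
      rw [pow_succ, pow_succ]
      show (powI k K ≫ _) ≫ _ = _ ≫ φ ≫ _
      rw [Category.assoc, ih, ← Category.assoc, hc, Category.assoc]
  refine (cancel_epi ((QCoh.toAbFunctor X).map (inclSeq h).g)).1 ?_
  rw [comp_zero, ← hit]
  ext U s
  set x := appS ((CategoryTheory.End.of (powI k K)) ^ e : CategoryTheory.End (Coh.toAb (ClSub.idealMod K)))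
    (unop U) s
  have hx : OmegaSh.idealSect K (unop U) x = OmegaSh.idealSect K (unop U) s ^ Nat.card k ^ e :=
    val_subPow_iterate (ClSub.idealModι K) (fun U => OmegaSh.idealModι_app_injective U K) (unop U) e s
  obtain ⟨t, ht⟩ := OmegaLib.exists_idealSect_eq I (unop U) (OmegaSh.idealSect K (unop U) x)
    (SurfInt.app_toSubscheme_zero_of_mem I (unop U) _ fun W hW => by
      rw [hx, map_pow]
      have hm : _ ∈ (K ^ e).ideal W := Ideal.pow_mem_pow (SurfInt.idealSect_res_mem K W hW s) e
      obtain ⟨d, hd⟩ := Nat.le.dest (Nat.lt_pow_self (n := e) (Finite.one_lt_card (α := k))).le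
      rw [← hd, pow_add]
      exact Ideal.mul_mem_right _ _ (he W hm))
  have hxt : x = (SurfInt.inclMap h).app (unop U) t := OmegaLib.idealSect_injective K (unop U)
    ((SurfInt.idealSect_inclMap h (unop U) t).trans ht).symm
  show (inclSeq h).g.app (unop U) x = 0
  rw [hxt]
  exact congr($((inclSeq h).zero).app (unop U) t)

end

end Groth.Agent.ZH85.Trace
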