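import Groth.Prelude.Def_Canon
import Groth.Agent.QCoh.HHExact
import Groth.Agent.QCoh.Ab.LerayNat
import Groth.Agent.QCoh.PushLin
import Groth.Agent.CurveCohLib.Proper
import Groth.Agent.DiscFam.TraceLocal
import Mathlib.LinearAlgebra.Trace

/-!
# Alternating traces of endomorphisms of the abelian sheaf underlying a coherent module

If an endomorphism of the abelian sheaf of an `O_X`-module over a field `k` commutes with the
constants, it acts linearly on cohomology; the alternating trace is additive in short exact sequences.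
-/

universe u

set_option autoImplicit false
set_option backward.isDefEq.respectTransparency false
set_option backward.isDefEq.respectTransparency.types false
set_option linter.style.haveILetI false

open CategoryTheory CategoryTheory.Limits AlgebraicGeometry TopologicalSpace Opposite
open CategoryTheory.Abelian

namespace Groth.Agent.ZH85.Trace

noncomputable section

open Groth.Agent

variable {k : Type u} [Field k] {X : Scheme.{u}} [X.Over (Spec (CommRingCat.of k))]

variable (k) in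
/-- The endomorphism commutes with the constants. -/
def IsScal (M : X.Modules) (φ : Coh.toAb M ⟶ Coh.toAb M) : Prop :=
  ∀ a : k, Coh.smulAb M (Coh.toGlobal (X ↘ Spec (CommRingCat.of k)) a) ≫ φ =
    φ ≫ Coh.smulAb M (Coh.toGlobal (X ↘ Spec (CommRingCat.of k)) a)

/-- The linear map on cohomology. -/
def lin {M : X.Modules} {φ : Coh.toAb M ⟶ Coh.toAb M} (h : IsScal k M φ) (i : ℕ) :
    Coh.HH X M i →ₗ[k] Coh.HH X M i where
  toFun := Sheaf.H.map φ i
  map_add' := map_add _
  map_smul' a x := by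
    show Sheaf.H.map φ i (Sheaf.H.map (Coh.smulAb M _) i x) =
      Sheaf.H.map (Coh.smulAb M _) i (Sheaf.H.map φ i x)
    exact (Sheaf.H.map_comp_apply ..).symm.trans ((congrArg (fun ψ => Sheaf.H.map ψ i x) (h a)).trans
      (Sheaf.H.map_comp_apply ..))

theorem lin_apply {M : X.Modules} {φ : Coh.toAb M ⟶ Coh.toAb M} (h : IsScal k M φ) (i : ℕ)
    (x : Coh.HH X M i) : lin h i x = Sheaf.H.map φ i x := rfl

open scoped Classical in
variable (k) in
/-- The trace in degree `i`; zero when the endomorphism does not commute with the constants. -/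
def trH (M : X.Modules) (φ : Coh.toAb M ⟶ Coh.toAb M) (i : ℕ) : k :=
  if h : IsScal k M φ then LinearMap.trace k _ (lin h i) else 0

theorem trH_eq {M : X.Modules} {φ : Coh.toAb M ⟶ Coh.toAb M} (h : IsScal k M φ) (i : ℕ) :
    trH k M φ i = LinearMap.trace k _ (lin h i) :=
  dif_pos h

theorem trH_subsingleton (M : X.Modules) (φ : Coh.toAb M ⟶ Coh.toAb M) (i : ℕ)
    [Subsingleton (Coh.HH X M i)] : trH k M φ i = 0 := by
  unfold trH
  split
  · next h => rw [Subsingleton.elim (lin h i) 0, map_zero]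
  · rfl

variable (k) in
/-- The alternating trace in degrees below `N`. -/
def lef (M : X.Modules) (φ : Coh.toAb M ⟶ Coh.toAb M) (N : ℕ) : k :=
  ∑ i ∈ Finset.range N, (-1 : k) ^ i * trH k M φ i

theorem lef_eq_of_le (M : X.Modules) (φ : Coh.toAb M ⟶ Coh.toAb M) {N N' : ℕ} (hle : N ≤ N')
    (h : ∀ i, N ≤ i → Subsingleton (Coh.HH X M i)) : lef k M φ N' = lef k M φ N := by
  refine (Finset.sum_subset (Finset.range_subset_range.2 hle) fun i _ hi => ?_).symm
  haveI := h i (by simpa using hi)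
  rw [trH_subsingleton, mul_zero]

/-- A nilpotent endomorphism has zero trace. -/
theorem lef_eq_zero_of_nilpotent {M : X.Modules} {φ : Coh.toAb M ⟶ Coh.toAb M} (h : IsScal k M φ)
    (m : ℕ) (hm : ((CategoryTheory.End.of φ) ^ m : CategoryTheory.End (Coh.toAb M)) = 0)
    [∀ i, Module.Finite k (Coh.HH X M i)] (N : ℕ) : lef k M φ N = 0 := by
  refine Finset.sum_eq_zero fun i _ => ?_
  have hpow : ∀ (j : ℕ) (x : Coh.HH X M i), (lin h i ^ j) x =
      Sheaf.H.map ((CategoryTheory.End.of φ) ^ j : CategoryTheory.End (Coh.toAb M)) i x := by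
    intro j
    induction j with
    | zero =>
      intro x
      rw [pow_zero, pow_zero, CategoryTheory.End.one_def, Module.End.one_apply, Sheaf.H.map_id_apply]
    | succ j ih =>
      intro x
      rw [pow_succ, pow_succ, CategoryTheory.End.mul_def, Module.End.mul_apply, ih, lin_apply,
        Sheaf.H.map_comp_apply]
  have hn : IsNilpotent (lin h i) := ⟨m, LinearMap.ext fun x => by
    rw [hpow, hm]
    exact (congrArg (fun z => Ext.comp x z (add_zero i)) (Ext.mk₀_zero _ _)).trans (Ext.comp_zero _ _ _ _ _)⟩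
  rw [trH_eq h, (LinearMap.isNilpotent_trace_of_isNilpotent hn).eq_zero, mul_zero]

/-- Traces in a commutative square with bijective horizontal map. -/
theorem trH_congr {Y : Scheme.{u}} [Y.Over (Spec (CommRingCat.of k))] {M : X.Modules} {M' : Y.Modules}
    {φ : Coh.toAb M ⟶ Coh.toAb M} {φ' : Coh.toAb M' ⟶ Coh.toAb M'} (h : IsScal k M φ)
    (h' : IsScal k M' φ') (i : ℕ) (e : Coh.HH X M i ≃ₗ[k] Coh.HH Y M' i)
    (he : ∀ x, e (Sheaf.H.map φ i x) = Sheaf.H.map φ' i (e x)) : trH k M φ i = trH k M' φ' i := by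
  rw [trH_eq h, trH_eq h', ← LinearMap.trace_conj' (lin h i) e]
  congr 1
  refine LinearMap.ext fun y => ?_
  rw [LinearEquiv.conj_apply_apply, lin_apply, lin_apply, he, LinearEquiv.apply_symm_apply]

omit [X.Over (Spec (CommRingCat.of k))] in
/-- Module maps commute with functions on the abelian sheaves. -/
theorem toAb_comp_smulAb {M M' : X.Modules} (j : M ⟶ M') (r : Coh.Γtop X) :
    Coh.smulAb M r ≫ (QCoh.toAbFunctor X).map j = (QCoh.toAbFunctor X).map j ≫ Coh.smulAb M' r :=
  (Canon.toSheaf_map_comp_smulAb j r).symm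

theorem isScal_of_mono {M M' : X.Modules} (j : M ⟶ M') [Mono j] {φ : Coh.toAb M ⟶ Coh.toAb M}
    {φ' : Coh.toAb M' ⟶ Coh.toAb M'} (hφ' : IsScal k M' φ')
    (hc : φ ≫ (QCoh.toAbFunctor X).map j = (QCoh.toAbFunctor X).map j ≫ φ') : IsScal k M φ := fun a => by
  haveI : Mono ((QCoh.toAbFunctor X).map j) := inferInstance
  have hs := toAb_comp_smulAb j (Coh.toGlobal (X ↘ Spec (CommRingCat.of k)) a)
  refine (cancel_mono ((QCoh.toAbFunctor X).map j)).1 ?_
  erw [Category.assoc, hc, ← Category.assoc, hs, Category.assoc, hφ' a, ← Category.assoc, ← hc,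
    Category.assoc, ← hs, Category.assoc]

theorem isScal_of_epi {M M' : X.Modules} (p : M ⟶ M') [Epi p] {φ : Coh.toAb M ⟶ Coh.toAb M}
    {φ' : Coh.toAb M' ⟶ Coh.toAb M'} (hφ : IsScal k M φ)
    (hc : φ ≫ (QCoh.toAbFunctor X).map p = (QCoh.toAbFunctor X).map p ≫ φ') : IsScal k M' φ' := fun a => by
  haveI : Epi ((QCoh.toAbFunctor X).map p) := inferInstance
  have hs := toAb_comp_smulAb p (Coh.toGlobal (X ↘ Spec (CommRingCat.of k)) a)
  refine (cancel_epi ((QCoh.toAbFunctor X).map p)).1 ?_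
  erw [← Category.assoc, ← hs, Category.assoc, ← hc, ← Category.assoc, hφ a, Category.assoc, hs,
    ← Category.assoc, hc, Category.assoc]

variable [IsProper (X ↘ Spec (CommRingCat.of k))]

/-- **Additivity of the alternating trace.** -/
theorem lef_add {S : ShortComplex X.Modules} (hS : S.ShortExact)
    (h₁ : Coh.IsCoh S.X₁) (h₂ : Coh.IsCoh S.X₂) (h₃ : Coh.IsCoh S.X₃)
    {φ₁ : Coh.toAb S.X₁ ⟶ Coh.toAb S.X₁} {φ₂ : Coh.toAb S.X₂ ⟶ Coh.toAb S.X₂}
    {φ₃ : Coh.toAb S.X₃ ⟶ Coh.toAb S.X₃}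
    (s₁ : IsScal k S.X₁ φ₁) (s₂ : IsScal k S.X₂ φ₂) (s₃ : IsScal k S.X₃ φ₃)
    (c₁₂ : φ₁ ≫ (QCoh.toAbFunctor X).map S.f = (QCoh.toAbFunctor X).map S.f ≫ φ₂)
    (c₂₃ : φ₂ ≫ (QCoh.toAbFunctor X).map S.g = (QCoh.toAbFunctor X).map S.g ≫ φ₃)
    (N : ℕ) (hN : Subsingleton (Coh.HH X S.X₁ N)) :
    lef k S.X₂ φ₂ N = lef k S.X₁ φ₁ N + lef k S.X₃ φ₃ N := by
  haveI := fun i => CurveCohLib.finite_HH (k := k) h₁ i
  haveI := fun i => CurveCohLib.finite_HH (k := k) h₂ i
  haveI := fun i => CurveCohLib.finite_HH (k := k) h₃ i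
  have hT := QCoh.toAb_shortExact hS
  let α : S.map (QCoh.toAbFunctor X) ⟶ S.map (QCoh.toAbFunctor X) :=
    { τ₁ := φ₁
      τ₂ := φ₂
      τ₃ := φ₃
      comm₁₂ := c₁₂
      comm₂₃ := c₂₃ }
  let f : ∀ i, Coh.HH X S.X₁ i →ₗ[k] Coh.HH X S.X₂ i := fun i => Canon.HHlin k S.f i
  let g : ∀ i, Coh.HH X S.X₂ i →ₗ[k] Coh.HH X S.X₃ i := fun i => Canon.HHlin k S.g i
  let δ : ∀ i, Coh.HH X S.X₃ i →ₗ[k] Coh.HH X S.X₁ (i + 1) := fun i =>
    { toFun := QCoh.Ab.connecting hT i
      map_add' := map_add _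
      map_smul' := fun a x => by
        let σ : S.map (QCoh.toAbFunctor X) ⟶ S.map (QCoh.toAbFunctor X) :=
          { τ₁ := Coh.smulAb S.X₁ (Coh.toGlobal (X ↘ Spec (CommRingCat.of k)) a)
            τ₂ := Coh.smulAb S.X₂ (Coh.toGlobal (X ↘ Spec (CommRingCat.of k)) a)
            τ₃ := Coh.smulAb S.X₃ (Coh.toGlobal (X ↘ Spec (CommRingCat.of k)) a)
            comm₁₂ := toAb_comp_smulAb S.f _
            comm₂₃ := toAb_comp_smulAb S.g _ }
        exact (QCoh.Ab.connecting_naturality hT hT σ i x).symm }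
  have hfa : ∀ i x, f i (lin s₁ i x) = lin s₂ i (f i x) := fun i x => by
    show Sheaf.H.map ((QCoh.toAbFunctor X).map S.f) i (Sheaf.H.map φ₁ i x) =
      Sheaf.H.map φ₂ i (Sheaf.H.map ((QCoh.toAbFunctor X).map S.f) i x)
    exact (Sheaf.H.map_comp_apply ..).symm.trans ((congrArg (fun ψ => Sheaf.H.map ψ i x) c₁₂).trans
      (Sheaf.H.map_comp_apply ..))
  have hga : ∀ i x, g i (lin s₂ i x) = lin s₃ i (g i x) := fun i x => by
    show Sheaf.H.map ((QCoh.toAbFunctor X).map S.g) i (Sheaf.H.map φ₂ i x) =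
      Sheaf.H.map φ₃ i (Sheaf.H.map ((QCoh.toAbFunctor X).map S.g) i x)
    exact (Sheaf.H.map_comp_apply ..).symm.trans ((congrArg (fun ψ => Sheaf.H.map ψ i x) c₂₃).trans
      (Sheaf.H.map_comp_apply ..))
  have hda : ∀ i x, δ i (lin s₃ i x) = lin s₁ (i + 1) (δ i x) := fun i x =>
    (QCoh.Ab.connecting_naturality hT hT α i x).symm
  -- exactness
  have e₂ : ∀ i, Function.Exact (f i) (g i) := fun i x => by
    refine ⟨fun hx => Ext.covariant_sequence_exact₂ _ hT x hx, ?_⟩
    rintro ⟨y, rfl⟩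
    show (y.comp (Ext.mk₀ (S.map (QCoh.toAbFunctor X)).f) (add_zero i)).comp
      (Ext.mk₀ (S.map (QCoh.toAbFunctor X)).g) (add_zero i) = 0
    rw [Ext.comp_assoc_of_second_deg_zero, Ext.mk₀_comp_mk₀, ShortComplex.zero, Ext.mk₀_zero,
      Ext.comp_zero]
  have e₃ : ∀ i, Function.Exact (g i) (δ i) := fun i x => QCoh.Ab.connecting_eq_zero_iff hT i x
  have e₁ : ∀ i, Function.Exact (δ i) (f (i + 1)) := fun i x => by
    refine ⟨fun hx => Ext.covariant_sequence_exact₁ _ hT x hx rfl, ?_⟩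
    rintro ⟨y, rfl⟩
    show (Ext.comp y hT.extClass rfl).comp (Ext.mk₀ (S.map (QCoh.toAbFunctor X)).f) (add_zero _) = 0
    rw [Ext.comp_assoc_of_third_deg_zero, hT.extClass_comp, Ext.comp_zero]
  have hf0 : Function.Injective (f 0) := by
    refine (injective_iff_map_eq_zero _).2 fun x hx => ?_
    have h0 := (Sheaf.H.equiv₀_naturality isTerminalTop (S.map (QCoh.toAbFunctor X)).f x).trans
      ((congrArg (Sheaf.H.equiv₀ (S.map (QCoh.toAbFunctor X)).X₂ isTerminalTop) hx).trans (map_zero _))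
    haveI := hT.mono_f
    have hinj : Function.Injective ((S.map (QCoh.toAbFunctor X)).f.hom.app (op ⊤)) :=
      (AddCommGrpCat.mono_iff_injective _).1 inferInstance
    exact (Sheaf.H.equiv₀ _ isTerminalTop).injective ((hinj (h0.trans (map_zero _).symm)).trans (map_zero _).symm)
  -- traces on kernels
  have ra : ∀ i, ∀ x ∈ LinearMap.ker (f i), lin s₁ i x ∈ LinearMap.ker (f i) := fun i x hx => by
    rw [LinearMap.mem_ker] at hx ⊢
    rw [hfa, hx, map_zero]
  have rb : ∀ i, ∀ x ∈ LinearMap.ker (g i), lin s₂ i x ∈ LinearMap.ker (g i) := fun i x hx => by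
    rw [LinearMap.mem_ker] at hx ⊢
    rw [hga, hx, map_zero]
  have rc : ∀ i, ∀ x ∈ LinearMap.ker (δ i), lin s₃ i x ∈ LinearMap.ker (δ i) := fun i x hx => by
    rw [LinearMap.mem_ker] at hx ⊢
    rw [hda, hx, map_zero]
  let γ : ℕ → k := fun i => LinearMap.trace k _ ((lin s₁ i).restrict (ra i))
  let a : ℕ → k := fun i => LinearMap.trace k _ ((lin s₂ i).restrict (rb i))
  let b : ℕ → k := fun i => LinearMap.trace k _ ((lin s₃ i).restrict (rc i))
  have t₁ : ∀ i, LinearMap.trace k _ (lin s₁ i) = γ i + a i := fun i => by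
    refine DiscFam.trace_add_of_exact (LinearMap.ker (f i)).subtype
      ((f i).codRestrict (LinearMap.ker (g i)) fun x => (e₂ i).apply_apply_eq_zero x)
      (Submodule.injective_subtype _) (fun y => ?_) (fun y => ?_) _ _ _ rfl ?_
    · obtain ⟨x, hx⟩ := (e₂ i y.1).1 y.2
      exact ⟨x, Subtype.ext hx⟩
    · simp only [Submodule.coe_subtype, Subtype.range_coe_subtype, Set.mem_setOf_eq, LinearMap.mem_ker]
      exact ⟨fun h => congrArg Subtype.val h, fun h => Subtype.ext h⟩
    · exact LinearMap.ext fun x => Subtype.ext (hfa i x)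
  have t₂ : ∀ i, LinearMap.trace k _ (lin s₂ i) = a i + b i := fun i => by
    refine DiscFam.trace_add_of_exact (LinearMap.ker (g i)).subtype
      ((g i).codRestrict (LinearMap.ker (δ i)) fun x => (e₃ i).apply_apply_eq_zero x)
      (Submodule.injective_subtype _) (fun y => ?_) (fun y => ?_) _ _ _ rfl ?_
    · obtain ⟨x, hx⟩ := (e₃ i y.1).1 y.2
      exact ⟨x, Subtype.ext hx⟩
    · simp only [Submodule.coe_subtype, Subtype.range_coe_subtype, Set.mem_setOf_eq, LinearMap.mem_ker]
      exact ⟨fun h => congrArg Subtype.val h, fun h => Subtype.ext h⟩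
    · exact LinearMap.ext fun x => Subtype.ext (hga i x)
  have t₃ : ∀ i, LinearMap.trace k _ (lin s₃ i) = b i + γ (i + 1) := fun i => by
    refine DiscFam.trace_add_of_exact (LinearMap.ker (δ i)).subtype
      ((δ i).codRestrict (LinearMap.ker (f (i + 1))) fun x => (e₁ i).apply_apply_eq_zero x)
      (Submodule.injective_subtype _) (fun y => ?_) (fun y => ?_) _ _ _ rfl ?_
    · obtain ⟨x, hx⟩ := (e₁ i y.1).1 y.2
      exact ⟨x, Subtype.ext hx⟩
    · simp only [Submodule.coe_subtype, Subtype.range_coe_subtype, Set.mem_setOf_eq, LinearMap.mem_ker]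
      exact ⟨fun h => congrArg Subtype.val h, fun h => Subtype.ext h⟩
    · exact LinearMap.ext fun x => Subtype.ext (hda i x)
  have hγ0 : γ 0 = 0 := by
    haveI : Subsingleton (LinearMap.ker (f 0)) := by
      rw [LinearMap.ker_eq_bot.2 hf0]
      infer_instance
    show LinearMap.trace k _ _ = 0
    rw [Subsingleton.elim ((lin s₁ 0).restrict (ra 0)) 0, map_zero]
  have hγN : γ N = 0 := by
    show LinearMap.trace k _ _ = 0
    rw [Subsingleton.elim ((lin s₁ N).restrict (ra N)) 0, map_zero]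
  have htel : ∀ M, ∑ i ∈ Finset.range M, (-1 : k) ^ i * (γ i + γ (i + 1)) =
      γ 0 - (-1) ^ M * γ M := by
    intro M
    induction M with
    | zero => simp
    | succ M ih => rw [Finset.sum_range_succ, ih, pow_succ]; ring
  have h := htel N
  rw [hγ0, hγN, mul_zero, sub_zero] at h
  rw [lef, lef, lef, ← sub_eq_zero, ← Finset.sum_add_distrib, ← Finset.sum_sub_distrib, ← neg_eq_zero,
    ← Finset.sum_neg_distrib]
  refine Eq.trans (Finset.sum_congr rfl fun i _ => ?_) h
  rw [trH_eq s₁, trH_eq s₂, trH_eq s₃, t₁, t₂, t₃]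
  ring

end

end Groth.Agent.ZH85.Trace
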