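import Groth.Agent.ZH85.Trace.Lef
import Groth.Prelude.Def_Omega4
import Groth.Agent.OmegaLib.IdealMod
import Mathlib.FieldTheory.Finite.Basic

/-!
# The `q`-th power map on submodules of the structure sheaf

For an injection `j : M ⟶ O` of modules the formula `s ↦ j(s)^(q-1) • s` is the unique lift of the
`q`-th power map.
-/

universe u

set_option autoImplicit false
set_option backward.isDefEq.respectTransparency false
set_option backward.isDefEq.respectTransparency.types false
set_option linter.style.haveILetI false

open CategoryTheory CategoryTheory.Limits AlgebraicGeometry TopologicalSpace Opposite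

namespace Groth.Agent.ZH85.Trace

noncomputable section

open Groth.Agent

variable (k : Type u) [Field k] [Finite k] {X : Scheme.{u}}

theorem one_le_card : 1 ≤ Nat.card k := Nat.one_le_iff_ne_zero.2 Nat.card_pos.ne'

variable {k} in
/-- The `q`-th power is additive on `k`-algebras. -/
theorem add_pow_card {R : Type*} [CommRing R] (ρ : k →+* R) (a b : R) :
    (a + b) ^ Nat.card k = a ^ Nat.card k + b ^ Nat.card k := by
  rcases subsingleton_or_nontrivial R with h | h
  · exact Subsingleton.elim _ _
  cases nonempty_fintype k
  obtain ⟨p, hp⟩ := CharP.exists k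
  obtain ⟨m, hpp, hm⟩ := FiniteField.card k p
  haveI := Fact.mk hpp
  haveI : CharP R p := charP_of_injective_ringHom ρ.injective p
  rw [Nat.card_eq_fintype_card, hm]
  exact add_pow_char_pow ..

variable [X.Over (Spec (CommRingCat.of k))]

/-- Constants on an open. -/
def constRes (U : X.Opens) : k →+* Γ(X, U) :=
  (X.presheaf.map (homOfLE le_top).op).hom.comp (Coh.toGlobal (X ↘ Spec (CommRingCat.of k)))

variable {k}

/-- The value in functions of a section. -/
def val {M : X.Modules} (j : M ⟶ Coh.structureModule X) (U : X.Opens) : Γ(M, U) →+ Γ(X, U) :=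
  (OmegaSh.fnSect X U).comp (j.app U).hom

omit [X.Over (Spec (CommRingCat.of k))] in
theorem val_smul {M : X.Modules} (j : M ⟶ Coh.structureModule X) (U : X.Opens) (r : Γ(X, U))
    (s : Γ(M, U)) : val j U (r • s) = r * val j U s := by
  show OmegaSh.fnSect X U (j.app U (r • s)) = _
  rw [Scheme.Modules.Hom.app_smul]
  rfl

omit [X.Over (Spec (CommRingCat.of k))] in
theorem val_map {M : X.Modules} (j : M ⟶ Coh.structureModule X) {U V : X.Opens} (i : V ⟶ U)
    (s : Γ(M, U)) : val j V (M.presheaf.map i.op s) = X.presheaf.map i.op (val j U s) :=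
  congr($(j.mapPresheaf.naturality i.op) s)

omit [X.Over (Spec (CommRingCat.of k))] in
theorem val_injective {M : X.Modules} {j : M ⟶ Coh.structureModule X}
    (hj : ∀ U, Function.Injective (j.app U)) (U : X.Opens) : Function.Injective (val j U) :=
  fun _ _ h => hj U h

variable (k) in
/-- The lift of the `q`-th power map on sections. -/
def powHom {M : X.Modules} (j : M ⟶ Coh.structureModule X) (hj : ∀ U, Function.Injective (j.app U))
    (U : X.Opens) : Γ(M, U) →+ Γ(M, U) :=
  AddMonoidHom.mk' (fun s => val j U s ^ (Nat.card k - 1) • s) fun a b => by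
    apply val_injective hj
    simp only [map_add, val_smul, ← pow_succ, Nat.sub_add_cancel (one_le_card k)]
    exact add_pow_card (constRes k U) _ _

theorem powHom_map {M : X.Modules} (j : M ⟶ Coh.structureModule X)
    (hj : ∀ U, Function.Injective (j.app U)) {U V : X.Opens} (i : V ⟶ U) (s : Γ(M, U)) :
    powHom k j hj V (M.presheaf.map i.op s) = M.presheaf.map i.op (powHom k j hj U s) := by
  show val j V (M.presheaf.map i.op s) ^ (Nat.card k - 1) • M.presheaf.map i.op s =
    M.presheaf.map i.op (val j U s ^ (Nat.card k - 1) • s)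
  rw [Scheme.Modules.map_smul, map_pow, val_map]

variable (k) in
/-- The lift of the `q`-th power map to a submodule of the structure sheaf. -/
def subPow {M : X.Modules} (j : M ⟶ Coh.structureModule X) (hj : ∀ U, Function.Injective (j.app U)) :
    Coh.toAb M ⟶ Coh.toAb M :=
  ⟨{ app := fun U => AddCommGrpCat.ofHom (powHom k j hj (unop U))
     naturality := fun U V i => by
      ext s
      exact powHom_map j hj i.unop s }⟩

/-- Sections of an endomorphism of the abelian sheaf. -/
abbrev appS {M : X.Modules} (φ : Coh.toAb M ⟶ Coh.toAb M) (U : X.Opens) (s : Γ(M, U)) : Γ(M, U) :=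
  φ.hom.app (op U) s

theorem subPow_app {M : X.Modules} (j : M ⟶ Coh.structureModule X)
    (hj : ∀ U, Function.Injective (j.app U)) (U : X.Opens) (s : Γ(M, U)) :
    appS (subPow k j hj) U s = val j U s ^ (Nat.card k - 1) • s := rfl

theorem val_subPow {M : X.Modules} (j : M ⟶ Coh.structureModule X)
    (hj : ∀ U, Function.Injective (j.app U)) (U : X.Opens) (s : Γ(M, U)) :
    val j U (appS (subPow k j hj) U s) = val j U s ^ Nat.card k := by
  rw [subPow_app, val_smul, ← pow_succ, Nat.sub_add_cancel (one_le_card k)]

theorem val_subPow_iterate {M : X.Modules} (j : M ⟶ Coh.structureModule X)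
    (hj : ∀ U, Function.Injective (j.app U)) (U : X.Opens) (m : ℕ) (s : Γ(M, U)) :
    val j U (appS ((CategoryTheory.End.of (subPow k j hj)) ^ m : CategoryTheory.End (Coh.toAb M)) U s) =
      val j U s ^ Nat.card k ^ m := by
  induction m generalizing s with
  | zero => rw [pow_zero, pow_zero, pow_one]; rfl
  | succ m ih =>
    rw [pow_succ ((CategoryTheory.End.of (subPow k j hj)))]
    show val j U (appS ((CategoryTheory.End.of (subPow k j hj)) ^ m : CategoryTheory.End (Coh.toAb M)) U
      (appS (subPow k j hj) U s)) = _
    rw [ih, val_subPow, ← pow_mul, ← pow_succ']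

variable (X) in
omit [X.Over (Spec (CommRingCat.of k))] in
theorem id_app_injective (U : X.Opens) :
    Function.Injective ((𝟙 (Coh.structureModule X) : Coh.structureModule X ⟶ _).app U) :=
  fun _ _ h => h

variable (k X) in
/-- The `q`-th power map. -/
def powO : Coh.toAb (Coh.structureModule X) ⟶ Coh.toAb (Coh.structureModule X) :=
  subPow k (𝟙 (Coh.structureModule X)) (id_app_injective X)

theorem powO_app (U : X.Opens) (s : Γ(Coh.structureModule X, U)) :
    OmegaSh.fnSect X U (appS (powO k X) U s) = OmegaSh.fnSect X U s ^ Nat.card k :=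
  val_subPow (𝟙 (Coh.structureModule X)) (id_app_injective X) U s

/-- An endomorphism given by the `q`-th power is `powO`. -/
theorem eq_powO (φ : Coh.toAb (Coh.structureModule X) ⟶ Coh.toAb (Coh.structureModule X))
    (hφ : ∀ (U : X.Opens) (s : Γ(X, U)), (φ.hom.app (Opposite.op U)).hom s = s ^ Nat.card k) :
    φ = powO k X := by
  ext U s
  exact (hφ (unop U) s).trans (powO_app (unop U) s).symm

theorem subPow_comp {M : X.Modules} (j : M ⟶ Coh.structureModule X)
    (hj : ∀ U, Function.Injective (j.app U)) {M' : X.Modules} (j' : M' ⟶ Coh.structureModule X)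
    (hj' : ∀ U, Function.Injective (j'.app U)) (h : M ⟶ M') (hc : h ≫ j' = j) :
    subPow k j hj ≫ (QCoh.toAbFunctor X).map h = (QCoh.toAbFunctor X).map h ≫ subPow k j' hj' := by
  subst hc
  ext U s
  exact Scheme.Modules.Hom.app_smul h (val (h ≫ j') (unop U) s ^ (Nat.card k - 1))
    (show Γ(M, unop U) from s)

theorem subPow_comp_powO {M : X.Modules} (j : M ⟶ Coh.structureModule X)
    (hj : ∀ U, Function.Injective (j.app U)) :
    subPow k j hj ≫ (QCoh.toAbFunctor X).map j = (QCoh.toAbFunctor X).map j ≫ powO k X :=
  subPow_comp j hj (𝟙 _) (id_app_injective X) j (Category.comp_id j)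

theorem powO_smul (U : X.Opens) (a : k) (s : Γ(Coh.structureModule X, U)) :
    appS (powO k X) U (constRes k U a • s) = constRes k U a • appS (powO k X) U s := by
  apply val_injective (id_app_injective X)
  simp only [powO, val_subPow, val_smul, mul_pow, ← map_pow]
  cases nonempty_fintype k
  rw [Nat.card_eq_fintype_card, FiniteField.pow_card]

theorem isScal_powO : IsScal k (Coh.structureModule X) (powO k X) := fun a => by
  ext U s
  exact powO_smul (unop U) a s

theorem mono_of_injective {M M' : X.Modules} (j : M ⟶ M') (hj : ∀ U, Function.Injective (j.app U)) :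
    Mono j :=
  ⟨fun g₁ g₂ h => by
    refine Scheme.Modules.hom_ext _ _ fun U => ?_
    ext t
    exact hj U (congr(($h).app U t))⟩

theorem isScal_subPow {M : X.Modules} (j : M ⟶ Coh.structureModule X)
    (hj : ∀ U, Function.Injective (j.app U)) : IsScal k M (subPow k j hj) :=
  haveI := mono_of_injective j hj
  isScal_of_mono j isScal_powO (subPow_comp_powO j hj)

end

end Groth.Agent.ZH85.Trace
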