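import Groth.Agent.PnCoh.TwistTriv
import Groth.Agent.ZH85.Trace.SubPow

/-!
# Multiplication by a homogeneous element `O(-D) ⟶ O` on `Proj`
-/

universe u

set_option autoImplicit false
set_option backward.isDefEq.respectTransparency false
set_option backward.isDefEq.respectTransparency.types false
set_option linter.style.haveILetI false

open CategoryTheory CategoryTheory.Limits AlgebraicGeometry Opposite TopologicalSpace

namespace Groth.Agent.ZH85.Trace

noncomputable section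

open Groth.Agent

variable {R A : Type u} [CommRing R] [CommRing A] [Algebra R A]
  {𝒜 : ℕ → Submodule R A} [GradedAlgebra 𝒜] {D : ℕ} (f : 𝒜 D)

theorem one_notMem (x : ProjectiveSpectrum 𝒜) : (1 : A) ∉ x.asHomogeneousIdeal :=
  fun h => x.isPrime.ne_top ((Ideal.eq_top_iff_one _).mpr h)

theorem exists_mul_eq (x : ProjectiveSpectrum 𝒜) (q : Twist.twistAt 𝒜 (-(D : ℤ)) x) :
    ∃ c : Twist.A0 𝒜 x, c.val = Localization.mk f.1 ⟨1, one_notMem x⟩ * (q : Twist.Loc 𝒜 x) := by
  obtain ⟨q, hq⟩ := q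
  induction hq using Submodule.span_induction with
  | mem z hz =>
    obtain ⟨i, j, a, s, hs, hij, rfl⟩ := hz
    have hmem : f.1 * a.1 ∈ 𝒜 j := by
      have h := SetLike.mul_mem_graded f.2 a.2
      rwa [show D + i = j by omega] at h
    refine ⟨HomogeneousLocalization.mk ⟨j, ⟨_, hmem⟩, s, hs⟩, ?_⟩
    rw [HomogeneousLocalization.val_mk, Localization.mk_mul]
    congr 1
    exact Subtype.ext (_root_.one_mul _).symm
  | zero => exact ⟨0, by rw [HomogeneousLocalization.val_zero, mul_zero]⟩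
  | add a b _ _ ha hb =>
    obtain ⟨c, hc⟩ := ha
    obtain ⟨d, hd⟩ := hb
    exact ⟨c + d, by rw [HomogeneousLocalization.val_add, hc, hd, mul_add]⟩
  | smul r a ha' ha =>
    obtain ⟨c, hc⟩ := ha
    refine ⟨r * c, ?_⟩
    rw [HomogeneousLocalization.val_mul, hc]
    show _ = _ * (((r • (⟨a, ha'⟩ : Twist.twistAt 𝒜 (-(D : ℤ)) x)) : Twist.twistAt 𝒜 (-(D : ℤ)) x) : Twist.Loc 𝒜 x)
    rw [Twist.coe_smul_val]
    ring

/-- The value of `f·q`. -/
def mulVal (x : ProjectiveSpectrum 𝒜) (q : Twist.twistAt 𝒜 (-(D : ℤ)) x) : Twist.A0 𝒜 x :=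
  (exists_mul_eq f x q).choose

theorem val_mulVal (x : ProjectiveSpectrum 𝒜) (q : Twist.twistAt 𝒜 (-(D : ℤ)) x) :
    (mulVal f x q).val = Localization.mk f.1 ⟨1, one_notMem x⟩ * (q : Twist.Loc 𝒜 x) :=
  (exists_mul_eq f x q).choose_spec

/-- Multiplication by `f` on sections. -/
def mulSect (U : (Opens (ProjectiveSpectrum.top 𝒜))ᵒᵖ) (s : Twist.sectN (𝒜 := 𝒜) (-(D : ℤ)) U) :
    Twist.O (𝒜 := 𝒜) U :=
  ⟨fun x => mulVal f x.1 (s.1 x), fun x => by
    obtain ⟨V, hxV, iV, i, j, ⟨a, ha⟩, ⟨t, ht⟩, nin, hdeg, w⟩ := s.2 x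
    have hmem : f.1 * a ∈ 𝒜 j := by
      rcases hdeg with h | h
      · have h' := SetLike.mul_mem_graded f.2 ha
        rwa [show D + i = j by omega] at h'
      · rw [show f.1 * a = 0 by simp only at h; rw [h, mul_zero]]
        exact zero_mem _
    refine ⟨V, hxV, iV, j, ⟨_, hmem⟩, ⟨t, ht⟩, nin, fun y => ?_⟩
    apply HomogeneousLocalization.val_injective
    refine (val_mulVal f y.1 _).trans ?_
    erw [w y]
    rw [HomogeneousLocalization.val_mk, Localization.mk_mul]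
    congr 1
    exact Subtype.ext (_root_.one_mul _)⟩

theorem val_mulSect (U : (Opens (ProjectiveSpectrum.top 𝒜))ᵒᵖ)
    (s : Twist.sectN (𝒜 := 𝒜) (-(D : ℤ)) U) (x : U.unop) :
    ((mulSect f U s).1 x).val = Localization.mk f.1 ⟨1, one_notMem x.1⟩ * (s.1 x : Twist.Loc 𝒜 x.1) :=
  val_mulVal f x.1 (s.1 x)

theorem mulSect_add (U : (Opens (ProjectiveSpectrum.top 𝒜))ᵒᵖ)
    (s t : Twist.sectN (𝒜 := 𝒜) (-(D : ℤ)) U) : mulSect f U (s + t) = mulSect f U s + mulSect f U t := by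
  refine Subtype.ext (funext fun x => HomogeneousLocalization.val_injective _ ?_)
  show ((mulSect f U (s + t)).1 x).val = ((mulSect f U s).1 x + (mulSect f U t).1 x).val
  rw [HomogeneousLocalization.val_add, val_mulSect, val_mulSect, val_mulSect, ← mul_add]
  rfl

theorem mulSect_smul (U : (Opens (ProjectiveSpectrum.top 𝒜))ᵒᵖ) (r : Twist.O (𝒜 := 𝒜) U)
    (s : Twist.sectN (𝒜 := 𝒜) (-(D : ℤ)) U) : mulSect f U (r • s) = r * mulSect f U s := by
  refine Subtype.ext (funext fun x => HomogeneousLocalization.val_injective _ ?_)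
  show ((mulSect f U (r • s)).1 x).val = (r.1 x * (mulSect f U s).1 x).val
  rw [HomogeneousLocalization.val_mul, val_mulSect, val_mulSect]
  refine (congrArg (Localization.mk f.1 _ * ·) (Twist.coe_smul_val (-(D : ℤ)) x.1 (r.1 x) (s.1 x))).trans ?_
  ring

/-- `O(-D) ⟶ O`. -/
def mulForm : Twist.twist 𝒜 (-(D : ℤ)) ⟶ Coh.structureModule (Proj 𝒜) :=
  ⟨PresheafOfModules.homMk
    { app := fun U => AddCommGrpCat.ofHom (AddMonoidHom.mk'
        (fun s : Twist.sectN (𝒜 := 𝒜) (-(D : ℤ)) U => mulSect f U s) (mulSect_add f U))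
      naturality := fun U V i => rfl }
    (fun U r s => mulSect_smul f U r s)⟩

theorem val_mulForm (U : (Proj 𝒜).Opens) (s : Twist.sectN (𝒜 := 𝒜) (-(D : ℤ)) (op U)) :
    val (mulForm f) U s = mulSect f (op U) s := rfl

/-- Multiplication by a nonzero element of a domain is injective. -/
theorem mulForm_app_injective [IsDomain A] (hf : f.1 ≠ 0) (U : (Proj 𝒜).Opens) :
    Function.Injective ((mulForm f).app U) := by
  intro a b h
  refine Subtype.ext (funext fun x => Subtype.ext ?_)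
  have h' := congrArg (fun c : Twist.O (𝒜 := 𝒜) (op U) => (c.1 x).val) h
  change ((mulSect f (op U) _).1 x).val = ((mulSect f (op U) _).1 x).val at h'
  rw [val_mulSect, val_mulSect] at h'
  refine mul_left_cancel₀ ?_ h'
  rw [Localization.mk_eq_mk']
  exact fun h0 => hf ((IsLocalization.mk'_eq_zero_iff _ _).1 h0 |>.elim fun m hm =>
    (mul_eq_zero.1 hm).resolve_left fun hm0 => m.2 (hm0 ▸ zero_mem _))

/-- The trivialisation is linear. -/
theorem triv_mul {s : A} (hs : s ∈ 𝒜 1) (d : ℤ) (U : (Proj 𝒜).Opens) (hU : PnCoh.NonVan (𝒜 := 𝒜) s U)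
    (r c : Γ(Proj 𝒜, U)) :
    (show Γ(Twist.twist 𝒜 d, U) from PnCoh.triv hs d hU (r * c)) =
      r • (show Γ(Twist.twist 𝒜 d, U) from PnCoh.triv hs d hU c) :=
  (PnCoh.triv hs d hU).map_smul r c

end

end Groth.Agent.ZH85.Trace
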