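import Groth.Agent.PnCoh.TwistTop
import Groth.Agent.ZH85.Trace.MulGen

/-!
# Multiplication by a form `O(-D) ⟶ O` on projective space
-/

universe u

set_option autoImplicit false
set_option backward.isDefEq.respectTransparency false
set_option backward.isDefEq.respectTransparency.types false
set_option linter.style.haveILetI false

open CategoryTheory CategoryTheory.Limits AlgebraicGeometry MvPolynomial Opposite TopologicalSpace

namespace Groth.Agent.ZH85.Trace

noncomputable section

open Groth.Agent Groth.Agent.PnCoh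

attribute [local instance] MvPolynomial.gradedAlgebra

variable {n : ℕ} {k : Type u} [Field k] {D : ℕ}

local notation "ι₀" => Fin (n + 1)
local notation "𝒮" => homogeneousSubmodule (Fin (n + 1)) k

variable (f : homogeneousSubmodule (Fin (n + 1)) k D)

theorem secL_mulSect {g : ι₀ →₀ ℕ} (hg : g ≠ 0) (s : TwSec k (-(D : ℤ)) g) :
    secL g hg (mulSect f (op (mOpen k g)) s) = toLaur ι₀ k f.1 * secTw (-(D : ℤ)) g hg s := by
  obtain ⟨a, j, hr⟩ := exists_isRep (-(D : ℤ)) g hg s
  rw [secTw_eq_of_isRep hg hr]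
  obtain ⟨⟨m, hm, ha⟩, hs⟩ := hr
  have hmem : f.1 * a ∈ 𝒮 (j • g.degree) := by
    have h := SetLike.mul_mem_graded f.2 ha
    rwa [show D + m = j • g.degree by rw [smul_eq_mul]; zify; omega] at h
  have heq : mulSect f (op (mOpen k g)) s = (Proj.awayToSection _ _).hom
      (HomogeneousLocalization.Away.mk _ (monomial_mem_homogeneous g) j _ hmem) := by
    refine Subtype.ext (funext fun x => HomogeneousLocalization.val_injective _ ?_)
    rw [val_mulSect, hs x]
    erw [ProjectiveSpectrum.Proj.awayToSection_apply]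
    rw [HomogeneousLocalization.Away.val_mk, Localization.mk_eq_mk'_apply (f.1 * a), IsLocalization.map_mk',
      ← Localization.mk_eq_mk'_apply, Localization.mk_mul]
    congr 1
    exact Subtype.ext (one_mul _)
  rw [heq, secL_awayToSection, awayToLaur_apply, HomogeneousLocalization.Away.val_mk, locToLaur_mk, map_mul,
    mul_assoc]

variable [Finite k]

instance overPS : (PS (Fin (n + 1)) k).Over (Spec (CommRingCat.of k)) := ⟨toSpecR (Fin (n + 1)) k⟩

variable (hf : f.1 ≠ 0)

/-- The lift of the power map to `O(-D)`. -/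
def powForm : Coh.toAb (Twist.twist 𝒮 (-(D : ℤ))) ⟶ Coh.toAb (Twist.twist 𝒮 (-(D : ℤ))) :=
  subPow k (mulForm f) (mulForm_app_injective f hf)

theorem secTw_powForm {g : ι₀ →₀ ℕ} (hg : g ≠ 0) (s : TwSec k (-(D : ℤ)) g) :
    secTw (-(D : ℤ)) g hg ((powForm f hf).hom.app (op (mOpen k g)) s : TwSec k (-(D : ℤ)) g) =
      toLaur ι₀ k (f.1 ^ (Nat.card k - 1)) * secTw (-(D : ℤ)) g hg s ^ Nat.card k := by
  obtain ⟨c, hc⟩ := exists_triv_eq (-(D : ℤ)) g hg s
  have hstep : ∀ r : Γ(Proj 𝒮, mOpen k g),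
      secTw (-(D : ℤ)) g hg (r • (show Γ(Twist.twist 𝒮 (-(D : ℤ)), mOpen k g) from s) : TwSec k (-(D : ℤ)) g) =
        secL g hg r * secTw (-(D : ℤ)) g hg s := fun r => by
    rw [← hc]
    refine (congrArg (secTw (-(D : ℤ)) g hg) (triv_mul (mem_homogeneous_X (someIdx hg)) (-(D : ℤ)) (mOpen k g)
      (nonVan_mOpen (someIdx_mem hg)) r c).symm).trans ?_
    refine (secTw_triv (-(D : ℤ)) g hg (r * c)).trans ?_
    rw [secTw_triv, map_mul]
    ring
  refine (hstep (val (mulForm f) (mOpen k g) s ^ (Nat.card k - 1))).trans ?_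
  rw [map_pow, map_pow, show secL g hg (val (mulForm f) (mOpen k g) s) =
    toLaur ι₀ k f.1 * secTw (-(D : ℤ)) g hg s from secL_mulSect f hg s]
  rw [mul_pow, mul_assoc, ← pow_succ, Nat.sub_add_cancel (one_le_card k)]

end

end Groth.Agent.ZH85.Trace
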