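import Groth.Agent.ZH85.Trace.Ideals
import Groth.Agent.QCoh.PushLin

/-!
# The alternating trace of a closed subscheme
-/

universe u

set_option autoImplicit false
set_option backward.isDefEq.respectTransparency false
set_option backward.isDefEq.respectTransparency.types false
set_option linter.style.haveILetI false

open CategoryTheory CategoryTheory.Limits AlgebraicGeometry TopologicalSpace Opposite

namespace Groth.Agent.ZH85.Trace

noncomputable section

open Groth.Agent

variable {k : Type u} [Field k] {X Z : Scheme.{u}} [X.Over (Spec (CommRingCat.of k))]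
  [Z.Over (Spec (CommRingCat.of k))] (i : Z ⟶ X)

theorem toGlobal_eq_appTop (hi : i ≫ (X ↘ Spec (CommRingCat.of k)) = Z ↘ Spec (CommRingCat.of k)) (a : k) :
    Coh.toGlobal (Z ↘ Spec (CommRingCat.of k)) a = i.appTop (Coh.toGlobal (X ↘ Spec (CommRingCat.of k)) a) := by
  have h := congrArg (fun f : Z ⟶ Spec (CommRingCat.of k) => f.appTop) hi
  simp only [Scheme.Hom.comp_appTop] at h
  simp only [Coh.toGlobal]
  rw [← h]
  rfl

/-- Pushing an endomorphism forward. -/
def pushEnd {M : Z.Modules} (φ : Coh.toAb M ⟶ Coh.toAb M) :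
    Coh.toAb ((Coh.push i).obj M) ⟶ Coh.toAb ((Coh.push i).obj M) :=
  (CohTop.push i.base).map (show QCoh.abSheaf M ⟶ QCoh.abSheaf M from φ)

theorem isScal_pushEnd (hi : i ≫ (X ↘ Spec (CommRingCat.of k)) = Z ↘ Spec (CommRingCat.of k))
    {M : Z.Modules} {φ : Coh.toAb M ⟶ Coh.toAb M} (h : IsScal k M φ) :
    IsScal k ((Coh.push i).obj M) (pushEnd i φ) := fun a => by
  rw [← QCoh.smulAb_push i M, ← toGlobal_eq_appTop i hi]
  exact ((CohTop.push i.base).map_comp _ _).symm.trans
    ((congrArg (CohTop.push i.base).map (h a)).trans ((CohTop.push i.base).map_comp _ _))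

theorem lef_push [IsClosedImmersion i]
    (hi : i ≫ (X ↘ Spec (CommRingCat.of k)) = Z ↘ Spec (CommRingCat.of k))
    {M : Z.Modules} (hM : Coh.IsQCoh M) {φ : Coh.toAb M ⟶ Coh.toAb M} (h : IsScal k M φ) (N : ℕ) :
    lef k ((Coh.push i).obj M) (pushEnd i φ) N = lef k M φ N := by
  have hb : QCoh.Ab.PreimageBasis i.base (QCoh.stdCovers Z) := fun U y hy => by
    obtain ⟨_, ⟨W, hW, rfl⟩, hyW, hWU⟩ := X.isBasis_affineOpens.exists_subset_of_mem_open hy U.2
    exact ⟨W, hWU, hyW, hW.preimage i⟩
  refine Finset.sum_congr rfl fun j _ => congrArg _ (Eq.symm ?_)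
  obtain ⟨e, he⟩ := QCoh.Ab.H_push_natural i.base (QCoh.stdCovers Z) hb j
  have hac := QCoh.stdCovers_acyclic hM
  refine trH_congr h (isScal_pushEnd i hi h) j (AddEquiv.toLinearEquiv (e (QCoh.abSheaf M) hac) fun a x => ?_)
    fun x => he (QCoh.abSheaf M) (QCoh.abSheaf M) hac hac φ x
  refine (he (QCoh.abSheaf M) (QCoh.abSheaf M) hac hac
    (Coh.smulAb M (Coh.toGlobal (Z ↘ Spec (CommRingCat.of k)) a)) x).trans ?_
  rw [toGlobal_eq_appTop i hi, QCoh.smulAb_push]
  rfl

variable [Finite k]

/-- The structure map of a closed subscheme commutes with the power maps. -/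
theorem powO_comp_unitToPush :
    powO k X ≫ (QCoh.toAbFunctor X).map (ClSub.unitToPush i) =
      (QCoh.toAbFunctor X).map (ClSub.unitToPush i) ≫ pushEnd i (powO k Z) := by
  ext U s
  show (ClSub.unitToPush i).app (unop U) (appS (powO k X) (unop U) s) =
    appS (powO k Z) (i ⁻¹ᵁ unop U) ((ClSub.unitToPush i).app (unop U) s)
  refine val_injective (id_app_injective Z) (i ⁻¹ᵁ unop U) (Eq.trans ?_ (powO_app (i ⁻¹ᵁ unop U) _).symm)
  refine (SurfInt.unitToPush_app_apply i (unop U) _).trans ?_
  refine (congrArg (i.app (unop U)) (powO_app (unop U) s)).trans ?_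
  exact map_pow (i.app (unop U)).hom _ _

variable [IsProper (X ↘ Spec (CommRingCat.of k))]

/-- `L(Z) = L(X) - L(I)` for a closed subscheme. -/
theorem lef_subscheme [IsClosedImmersion i]
    (hi : i ≫ (X ↘ Spec (CommRingCat.of k)) = Z ↘ Spec (CommRingCat.of k))
    {N : ℕ} (hN : ∀ M : X.Modules, Coh.IsQCoh M → ∀ j, N ≤ j → Subsingleton (Coh.HH X M j)) :
    lef k (Coh.structureModule Z) (powO k Z) N =
      lef k (Coh.structureModule X) (powO k X) N - LI k N i.ker := by
  haveI := CurveCohLib.isNoetherian_of_proper (k := k) (X := X)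
  letI : i.ker.subscheme.Over (Spec (CommRingCat.of k)) :=
    ⟨i.ker.subschemeι ≫ (X ↘ Spec (CommRingCat.of k))⟩
  have hW : i.ker.subschemeι ≫ (X ↘ Spec (CommRingCat.of k)) = i.ker.subscheme ↘ Spec (CommRingCat.of k) := rfl
  haveI : IsProper (i.ker.subscheme ↘ Spec (CommRingCat.of k)) := by rw [← hW]; infer_instance
  haveI : IsProper (Z ↘ Spec (CommRingCat.of k)) := by rw [← hi]; infer_instance
  have h1 : lef k (Coh.structureModule X) (powO k X) N = LI k N i.ker +
      lef k (Coh.structureModule i.ker.subscheme) (powO k i.ker.subscheme) N := by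
    rw [← lef_push i.ker.subschemeι hW QCoh.isQCoh_structureModule isScal_powO N]
    exact lef_add (SurfInt.idealSeq_shortExact i.ker) (SurfInt.isCoh_idealMod _) QCoh.isCoh_structureModule'
      (ParShLib.isCoh_quotMod _) (isScal_powI _) isScal_powO (isScal_pushEnd _ hW isScal_powO)
      (subPow_comp_powO (ClSub.idealModι i.ker) fun U => OmegaSh.idealModι_app_injective U i.ker)
      (powO_comp_unitToPush i.ker.subschemeι) N (hN _ (SurfInt.isCoh_idealMod _).1 N le_rfl)
  -- transport along the isomorphism onto the image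
  let e := SurfInt.kerIso i
  have he : e.hom ≫ (i.ker.subscheme ↘ Spec (CommRingCat.of k)) = Z ↘ Spec (CommRingCat.of k) := by
    rw [← hW, ← Category.assoc, SurfInt.kerIso_hom, hi]
  have h2 : lef k (Coh.structureModule i.ker.subscheme) (powO k i.ker.subscheme) N =
      lef k (Coh.structureModule Z) (powO k Z) N := by
    rw [← lef_push e.hom he QCoh.isQCoh_structureModule isScal_powO N]
    haveI := SurfInt.isIso_unitToPush_of_iso e.hom
    let u := asIso (ClSub.unitToPush e.hom)
    refine Finset.sum_congr rfl fun j _ => congrArg _ (trH_congr isScal_powO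
      (isScal_pushEnd _ he isScal_powO) j
      (LinearEquiv.ofBijective (Canon.HHlin k u.hom j) ?_) fun x => ?_)
    · refine Function.bijective_iff_has_inverse.2 ⟨Canon.HHlin k u.inv j, fun x => ?_, fun x => ?_⟩
      · refine (Sheaf.H.map_comp_apply ..).symm.trans ?_
        erw [← CategoryTheory.Functor.map_comp, Iso.hom_inv_id, CategoryTheory.Functor.map_id, Sheaf.H.map_id_apply]
      · refine (Sheaf.H.map_comp_apply ..).symm.trans ?_
        erw [← CategoryTheory.Functor.map_comp, Iso.inv_hom_id, CategoryTheory.Functor.map_id, Sheaf.H.map_id_apply]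
    · exact (Sheaf.H.map_comp_apply ..).symm.trans
        ((congrArg (fun ψ => Sheaf.H.map ψ j x) (powO_comp_unitToPush e.hom)).trans (Sheaf.H.map_comp_apply ..))
  rw [h1, h2]
  ring

end

end Groth.Agent.ZH85.Trace
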