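import Groth.Agent.ZH85.Trace.Ideals
import Groth.Agent.ZH85.Trace.MulGen
import Groth.Agent.QCoh.FT
import Groth.Agent.RPSM.PushColim

/-!
# The ideal of a hypersurface as the image of multiplication by the form
-/

universe u

set_option autoImplicit false
set_option backward.isDefEq.respectTransparency false
set_option backward.isDefEq.respectTransparency.types false
set_option linter.style.haveILetI false

open CategoryTheory CategoryTheory.Limits AlgebraicGeometry TopologicalSpace Opposite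

namespace Groth.Agent.ZH85.Trace

noncomputable section

open Groth.Agent

section General

variable {X : Scheme.{u}} {M : X.Modules} (j : M ⟶ Coh.structureModule X)

/-- The image on sections. -/
def rangeOn (U : X.Opens) : Ideal Γ(X, U) where
  carrier := Set.range (val j U)
  add_mem' := by rintro _ _ ⟨s, rfl⟩ ⟨t, rfl⟩; exact ⟨s + t, map_add _ _ _⟩
  zero_mem' := ⟨0, map_zero _⟩
  smul_mem' := by rintro c _ ⟨s, rfl⟩; exact ⟨c • s, val_smul j U c s⟩

theorem rangeOn_map (hM : Coh.IsQCoh M) (U : X.affineOpens) (g : Γ(X, U.1)) :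
    (rangeOn j U.1).map (X.presheaf.map (homOfLE <| X.basicOpen_le g).op).hom =
      rangeOn j (X.affineBasicOpen g).1 := by
  refine le_antisymm (Ideal.map_le_iff_le_comap.2 ?_) ?_
  · rintro _ ⟨s, rfl⟩
    exact ⟨M.presheaf.map (homOfLE (X.basicOpen_le g)).op s, val_map j _ s⟩
  · rintro _ ⟨y, rfl⟩
    obtain ⟨m, t, ht⟩ := QCoh.exists_pow_smul_eq_map hM U.2 g y
    have h := congrArg (val j (X.basicOpen g)) ht
    have hu : IsUnit ((X.presheaf.map (homOfLE <| X.basicOpen_le g).op).hom g) :=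
      X.toRingedSpace.isUnit_res_basicOpen g
    have hmem : (X.presheaf.map (homOfLE <| X.basicOpen_le g).op).hom (val j U.1 t) ∈
        (rangeOn j U.1).map (X.presheaf.map (homOfLE <| X.basicOpen_le g).op).hom :=
      Ideal.mem_map_of_mem _ ⟨t, rfl⟩
    rw [← val_map j (homOfLE (X.basicOpen_le g)) t] at hmem
    refine (Ideal.unit_mul_mem_iff_mem _ (hu.pow m)).1 ?_
    convert hmem using 1
    rw [h, val_smul]
    rfl

variable (hM : Coh.IsQCoh M) (S : Set X)
  (hS : ∀ (U : X.affineOpens), ∀ x ∈ U.1, x ∈ S ↔ x ∈ X.zeroLocus (U := U.1) (rangeOn j U.1))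

/-- The image as an ideal sheaf. -/
def rangeIdeal : X.IdealSheafData :=
  Scheme.IdealSheafData.mkOfMemSupportIff (fun U => rangeOn j U.1) (rangeOn_map j hM) S hS

theorem coe_support_rangeIdeal : ((rangeIdeal j hM S hS).support : Set X) = S := rfl

variable {k : Type u} [Field k] [Finite k] [X.Over (Spec (CommRingCat.of k))]

/-- The trace on the source is the trace on the image. -/
theorem lef_eq_LI (hj : ∀ U, Function.Injective (j.app U)) (N : ℕ) :
    lef k M (subPow k j hj) N = LI k N (rangeIdeal j hM S hS) := by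
  set I := rangeIdeal j hM S hS
  have hz : j ≫ ClSub.toSubscheme I = 0 := by
    refine Scheme.Modules.hom_ext _ _ fun U => ?_
    ext t
    exact SurfInt.app_toSubscheme_zero_of_mem I U (val j U t) fun W hW => by
      rw [← val_map j (homOfLE hW) t]
      exact ⟨_, rfl⟩
  let j' : M ⟶ ClSub.idealMod I := kernel.lift (ClSub.toSubscheme I) j hz
  have hj' : j' ≫ ClSub.idealModι I = j := kernel.lift_ι _ _ _
  haveI : IsIso j' := RPSM.isIso_of_bijective_affines j' fun V => by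
    refine ⟨fun a b h => hj V.1 ?_, fun s => ?_⟩
    · rw [← hj']
      exact congrArg ((ClSub.idealModι I).app V.1) h
    · obtain ⟨t, ht⟩ : OmegaSh.idealSect I V.1 s ∈ rangeOn j V.1 := OmegaLib.idealSect_mem I V s
      refine ⟨t, OmegaLib.idealSect_injective I V.1 (Eq.trans ?_ ht)⟩
      rw [← hj']
      rfl
  let u := asIso j'
  refine Finset.sum_congr rfl fun i _ => congrArg _ (trH_congr (isScal_subPow j hj) (isScal_powI I) i
    (LinearEquiv.ofBijective (Canon.HHlin k u.hom i) ?_) fun x => ?_)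
  · refine Function.bijective_iff_has_inverse.2 ⟨Canon.HHlin k u.inv i, fun x => ?_, fun x => ?_⟩
    · refine (Sheaf.H.map_comp_apply ..).symm.trans ?_
      erw [← CategoryTheory.Functor.map_comp, Iso.hom_inv_id, CategoryTheory.Functor.map_id, Sheaf.H.map_id_apply]
    · refine (Sheaf.H.map_comp_apply ..).symm.trans ?_
      erw [← CategoryTheory.Functor.map_comp, Iso.inv_hom_id, CategoryTheory.Functor.map_id, Sheaf.H.map_id_apply]
  · exact (Sheaf.H.map_comp_apply ..).symm.trans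
      ((congrArg (fun ψ => Sheaf.H.map ψ i x) (subPow_comp j hj _ _ j' hj')).trans (Sheaf.H.map_comp_apply ..))

end General

section Proj

variable {R A : Type u} [CommRing R] [CommRing A] [Algebra R A]
  {𝒜 : ℕ → Submodule R A} [GradedAlgebra 𝒜] {D : ℕ} (f : 𝒜 D)

/-- The closed set `V₊(f)`. -/
def zeroSet : Set (Proj 𝒜) := {x : ProjectiveSpectrum 𝒜 | f.1 ∈ x.asHomogeneousIdeal}

/-- `1/f` as a section of `O(-D)` away from `V₊(f)`. -/
def invSect (W : Opens (ProjectiveSpectrum.top 𝒜)) (hW : ∀ y : W, f.1 ∉ y.1.asHomogeneousIdeal) :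
    Twist.sectN (𝒜 := 𝒜) (-(D : ℤ)) (op W) :=
  ⟨fun y => ⟨Localization.mk 1 ⟨f.1, hW y⟩,
      Submodule.subset_span ⟨0, D, ⟨1, SetLike.GradedOne.one_mem⟩, f, hW y, by omega, rfl⟩⟩,
    fun y => ⟨W, y.2, 𝟙 W, 0, D, ⟨1, SetLike.GradedOne.one_mem⟩, f, hW, Or.inl (by omega), fun _ => rfl⟩⟩

theorem mulSect_invSect (W : Opens (ProjectiveSpectrum.top 𝒜)) (hW : ∀ y : W, f.1 ∉ y.1.asHomogeneousIdeal) :
    mulSect f (op W) (invSect f W hW) = 1 := by
  refine Subtype.ext (funext fun y => HomogeneousLocalization.val_injective _ ?_)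
  refine (val_mulSect f (op W) (invSect f W hW) y).trans ?_
  show Localization.mk f.1 _ * Localization.mk 1 _ = (1 : Twist.A0 𝒜 y.1).val
  rw [Localization.mk_mul, HomogeneousLocalization.val_one, ← Localization.mk_one, Localization.mk_eq_mk_iff,
    Localization.r_iff_exists]
  exact ⟨1, by simp⟩

theorem notMem_zeroSet_of_mem_basicOpen (U : (Proj 𝒜).Opens) (x : Proj 𝒜)
    (s : Twist.sectN (𝒜 := 𝒜) (-(D : ℤ)) (op U))
    (hxa : x ∈ (Proj 𝒜).basicOpen (show Γ(Proj 𝒜, U) from mulSect f (op U) s)) : x ∉ zeroSet f := by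
  set a : Γ(Proj 𝒜, U) := mulSect f (op U) s
  obtain ⟨b, hb⟩ := isUnit_iff_exists_inv.1 ((Proj 𝒜).toRingedSpace.isUnit_res_basicOpen a)
  have hxU : x ∈ U := (Proj 𝒜).basicOpen_le a hxa
  have h1 : ((mulSect f (op U) s).1 ⟨x, hxU⟩) *
      ((show Twist.O (𝒜 := 𝒜) (op ((Proj 𝒜).basicOpen a)) from b).1 ⟨x, hxa⟩) = 1 :=
    congrArg (fun c : Twist.O (𝒜 := 𝒜) (op ((Proj 𝒜).basicOpen a)) => c.1 ⟨x, hxa⟩) hb
  have h2 := congrArg HomogeneousLocalization.val h1
  rw [HomogeneousLocalization.val_mul, HomogeneousLocalization.val_one, val_mulSect, mul_assoc] at h2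
  have hu : IsUnit (Localization.mk f.1 ⟨1, one_notMem (x : ProjectiveSpectrum 𝒜)⟩ :
      Twist.Loc 𝒜 (x : ProjectiveSpectrum 𝒜)) := IsUnit.of_mul_eq_one _ h2
  have he : (Localization.mk f.1 ⟨1, one_notMem (x : ProjectiveSpectrum 𝒜)⟩ :
      Twist.Loc 𝒜 (x : ProjectiveSpectrum 𝒜)) = algebraMap A _ f.1 := Localization.mk_one_eq_algebraMap _
  rw [he, IsLocalization.AtPrime.isUnit_to_map_iff
    (Localization.AtPrime (x : ProjectiveSpectrum 𝒜).asHomogeneousIdeal.toIdeal)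
    (x : ProjectiveSpectrum 𝒜).asHomogeneousIdeal.toIdeal] at hu
  exact hu

theorem zeroSet_iff (hM : Coh.IsQCoh (Twist.twist 𝒜 (-(D : ℤ)))) (U : (Proj 𝒜).affineOpens) (x : Proj 𝒜)
    (hx : x ∈ U.1) :
    x ∈ zeroSet f ↔ x ∈ (Proj 𝒜).zeroLocus (U := U.1) (rangeOn (mulForm f) U.1) := by
  rw [Scheme.mem_zeroLocus_iff]
  refine ⟨?_, fun h => ?_⟩
  · rintro hf _ ⟨s, rfl⟩ hxa
    exact notMem_zeroSet_of_mem_basicOpen f U.1 x s hxa hf
  · by_contra hf
    obtain ⟨g, hgle, hxg⟩ := U.2.exists_basicOpen_le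
      (V := U.1 ⊓ Proj.basicOpen 𝒜 f.1) ⟨x, ⟨hx, hf⟩⟩ hx
    have h1 : (1 : Γ(Proj 𝒜, ((Proj 𝒜).affineBasicOpen g).1)) ∈
        rangeOn (mulForm f) ((Proj 𝒜).affineBasicOpen g).1 :=
      ⟨invSect f ((Proj 𝒜).basicOpen g) fun y => (hgle y.2).2, mulSect_invSect f _ _⟩
    rw [← rangeOn_map (mulForm f) hM U g] at h1
    haveI := U.2.isLocalization_basicOpen g
    obtain ⟨⟨⟨a, ha⟩, ⟨_, m, rfl⟩⟩, hm⟩ := (IsLocalization.mem_map_algebraMap_iff (Submonoid.powers g)
      Γ(Proj 𝒜, (Proj 𝒜).basicOpen g)).1 h1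
    refine h a ha ?_
    have hres : (Proj 𝒜).basicOpen (algebraMap Γ(Proj 𝒜, U.1) Γ(Proj 𝒜, (Proj 𝒜).basicOpen g) a) =
        (Proj 𝒜).basicOpen g := by
      rw [← hm, _root_.one_mul]
      refine Scheme.basicOpen_of_isUnit _ ?_
      exact IsLocalization.map_units (M := Submonoid.powers g) _ ⟨g ^ m, m, rfl⟩
    have hx' : x ∈ (Proj 𝒜).basicOpen (algebraMap Γ(Proj 𝒜, U.1) Γ(Proj 𝒜, (Proj 𝒜).basicOpen g) a) :=
      hres.symm ▸ hxg
    rw [show algebraMap Γ(Proj 𝒜, U.1) Γ(Proj 𝒜, (Proj 𝒜).basicOpen g) a =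
      (Proj 𝒜).presheaf.map (homOfLE ((Proj 𝒜).basicOpen_le g)).op a from rfl, Scheme.basicOpen_res] at hx'
    exact hx'.2

/-- The ideal of `V₊(f)`. -/
def formIdeal (hM : Coh.IsQCoh (Twist.twist 𝒜 (-(D : ℤ)))) : (Proj 𝒜).IdealSheafData :=
  rangeIdeal (mulForm f) hM (zeroSet f) (zeroSet_iff f hM)

end Proj

end

end Groth.Agent.ZH85.Trace
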