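import Groth.Agent.ZH85.Trace.MulForm
import Mathlib.LinearAlgebra.Matrix.Trace
import Mathlib.RingTheory.MvPolynomial.Basic

/-!
# The trace of the twisted power map on `O(-D)`
-/

universe u

set_option autoImplicit false
set_option backward.isDefEq.respectTransparency false
set_option backward.isDefEq.respectTransparency.types false
set_option linter.style.haveILetI false

open CategoryTheory CategoryTheory.Limits AlgebraicGeometry MvPolynomial Opposite TopologicalSpace
open Groth.Agent.QCoh.Ab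

namespace Groth.Agent.ZH85.Trace

noncomputable section

open Groth.Agent Groth.Agent.PnCoh

attribute [local instance] MvPolynomial.gradedAlgebra

variable {n : ℕ} {k : Type u} [Field k]

local notation "ι₀" => Fin (n + 1)
local notation "𝒮" => homogeneousSubmodule (Fin (n + 1)) k

/-- The exponents of degree `j`. -/
def degSet (n j : ℕ) : Finset (Fin (n + 1) →₀ ℕ) := Finset.finsuppAntidiag Finset.univ j

theorem mem_degSet {j : ℕ} {a : ι₀ →₀ ℕ} : a ∈ degSet n j ↔ a.degree = j := by
  simp [degSet, Finset.mem_finsuppAntidiag, Finsupp.degree_eq_sum]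

/-- The coefficient sum of the trace formula. -/
def trSum (g : MvPolynomial ι₀ k) (m j : ℕ) : k :=
  ∑ a ∈ degSet n j, coeff (Finsupp.equivFunOnFinite.symm fun i => m * (a i + 1)) g

variable [Finite k]

theorem coeff_toLaur_mul_single (g : MvPolynomial ι₀ k) (x y : Expo ι₀) (r : k) :
    ((toLaur ι₀ k g) * AddMonoidAlgebra.single x r).coeff y =
      (toLaur ι₀ k g).coeff (y - x) * r := by
  classical
  rw [AddMonoidAlgebra.coeff_mul_single_apply]
  congr 2
  abel

theorem coeff_toLaur (g : MvPolynomial ι₀ k) (b : ι₀ →₀ ℕ) :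
    (toLaur ι₀ k g).coeff (castExpo ι₀ b) = coeff b g :=
  Finsupp.mapDomain_apply castExpo_injective (AddMonoidAlgebra.coeff g) b

theorem coeff_toLaur_eq_zero (g : MvPolynomial ι₀ k) {y : Expo ι₀} {i : ι₀} (hy : y i < 0) :
    (toLaur ι₀ k g).coeff y = 0 := by
  induction g using MvPolynomial.induction_on' with
  | monomial b c =>
    rw [toLaur_monomial, AddMonoidAlgebra.coeff_single, Finsupp.single_apply, if_neg]
    rintro rfl
    rw [castExpo_apply] at hy
    omega
  | add p p' hp hp' => rw [map_add, AddMonoidAlgebra.coeff_add, Finsupp.add_apply, hp, hp', add_zero]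

theorem pow_card_single (x : Expo ι₀) (r : k) :
    (AddMonoidAlgebra.single x r : Laur ι₀ k) ^ Nat.card k =
      AddMonoidAlgebra.single (Nat.card k • x) r := by
  cases nonempty_fintype k
  rw [AddMonoidAlgebra.single_pow]
  congr 1
  rw [Nat.card_eq_fintype_card, FiniteField.pow_card]

/-- The `q`-th power on Laurent polynomials. -/
def laurFrob : Laur ι₀ k →+ Laur ι₀ k :=
  AddMonoidHom.mk' (· ^ Nat.card k) fun a b => add_pow_card (AddMonoidAlgebra.singleZeroRingHom) a b

/-- Only the bottom part matters. -/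
theorem botPoly_mul_pow (g : MvPolynomial ι₀ k) (p : Laur ι₀ k) :
    botPoly (toLaur ι₀ k g * p ^ Nat.card k) =
      botPoly (toLaur ι₀ k g * ofBot (botPoly p) ^ Nat.card k) := by
  classical
  set r := p - ofBot (botPoly p) with hr
  have hr0 : ∀ a, r.coeff (negExpo a) = 0 := fun a => by
    rw [hr, AddMonoidAlgebra.coeff_sub, Finsupp.sub_apply, ← coeff_botPoly, ← coeff_botPoly,
      botPoly_ofBot, sub_self]
  have hz : botPoly (toLaur ι₀ k g * r ^ Nat.card k) = 0 := by
    ext a
    rw [coeff_botPoly, coeff_zero, show r ^ Nat.card k = laurFrob r from rfl,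
      ← AddMonoidAlgebra.sum_coeff_single r, Finsupp.sum, map_sum, Finset.mul_sum,
      AddMonoidAlgebra.coeff_sum, Finsupp.finsetSum_apply]
    refine Finset.sum_eq_zero fun x hx => ?_
    show (toLaur ι₀ k g * AddMonoidAlgebra.single x (r.coeff x) ^ Nat.card k).coeff (negExpo a) = 0
    rw [pow_card_single, coeff_toLaur_mul_single]
    obtain ⟨i, hi⟩ : ∃ i, 0 ≤ x i := by
      by_contra h
      obtain ⟨b, rfl⟩ := exists_negExpo_eq (m := n) (e := x) fun i => not_le.1 fun hx => h ⟨i, hx⟩
      exact Finsupp.mem_support_iff.1 hx (hr0 b)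
    rw [coeff_toLaur_eq_zero g (i := i), zero_mul]
    rw [Finsupp.sub_apply, Finsupp.smul_apply, negExpo_apply]
    have : (0 : ℤ) ≤ Nat.card k • x i := nsmul_nonneg hi _
    omega
  have hp : p ^ Nat.card k = ofBot (botPoly p) ^ Nat.card k + r ^ Nat.card k := by
    show laurFrob p = laurFrob (ofBot (botPoly p)) + laurFrob r
    rw [← map_add]
    congr 1
    rw [hr]
    abel
  rw [hp, mul_add, map_add, hz, add_zero]

theorem ofBot_monomial (a : ι₀ →₀ ℕ) :
    ofBot (monomial a (1 : k)) = AddMonoidAlgebra.single (negExpo a) 1 := by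
  classical
  rw [ofBot, support_monomial, if_neg one_ne_zero, Finset.sum_singleton, coeff_monomial, if_pos rfl]

theorem coeff_diag (g : MvPolynomial ι₀ k) (a : ι₀ →₀ ℕ) :
    coeff a (botPoly (toLaur ι₀ k g * ofBot (monomial a (1 : k)) ^ Nat.card k)) =
      coeff (Finsupp.equivFunOnFinite.symm fun i => (Nat.card k - 1) * (a i + 1)) g := by
  rw [coeff_botPoly, ofBot_monomial, pow_card_single, coeff_toLaur_mul_single, _root_.mul_one,
    ← coeff_toLaur]
  congr 1
  ext i
  rw [Finsupp.sub_apply, Finsupp.smul_apply, negExpo_apply, castExpo_apply,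
    Finsupp.equivFunOnFinite_symm_apply_apply, Nat.cast_mul, Nat.cast_sub (one_le_card k), nsmul_eq_mul]
  push_cast
  ring

theorem trace_eq_sum_coeff {j : ℕ} (T : homogeneousSubmodule ι₀ k j →ₗ[k] homogeneousSubmodule ι₀ k j)
    (c : (ι₀ →₀ ℕ) → k)
    (hc : ∀ (a : ι₀ →₀ ℕ) (h : monomial a (1 : k) ∈ homogeneousSubmodule ι₀ k j),
      coeff a (T ⟨monomial a 1, h⟩).1 = c a) :
    LinearMap.trace k _ T = ∑ a ∈ degSet n j, c a := by
  classical
  haveI : Fintype {d : ι₀ →₀ ℕ | d.degree = j} := Fintype.ofFinset (degSet n j) fun a => mem_degSet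
  let b : Module.Basis {d : ι₀ →₀ ℕ | d.degree = j} k (homogeneousSubmodule ι₀ k j) :=
    (basisRestrictSupport k {d : ι₀ →₀ ℕ | d.degree = j}).map
      (LinearEquiv.ofEq _ _ (homogeneousSubmodule_eq_finsupp_supported ι₀ k j).symm)
  have hb : ∀ a : {d : ι₀ →₀ ℕ | d.degree = j}, (b a : MvPolynomial ι₀ k) = monomial a.1 1 := fun a => by
    apply AddMonoidAlgebra.coeff_injective
    simp [b, basisRestrictSupport, AddMonoidAlgebra.supportedEquivFinsupp, MvPolynomial.monomial]
  rw [LinearMap.trace_eq_matrix_trace k b, Matrix.trace,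
    Finset.sum_subtype (degSet n j) (p := fun a => a ∈ {d : ι₀ →₀ ℕ | d.degree = j}) (fun a => mem_degSet) c]
  refine Finset.sum_congr rfl fun a _ => ?_
  rw [Matrix.diag_apply, LinearMap.toMatrix_apply]
  have h : monomial a.1 (1 : k) ∈ homogeneousSubmodule ι₀ k j := hb a ▸ (b a).2
  rw [show b a = ⟨monomial a.1 1, h⟩ from Subtype.ext (hb a), ← hc a.1 h]
  rfl

variable {j : ℕ} (f : homogeneousSubmodule (Fin (n + 1)) k (n + 1 + j))

theorem neg_cast : -((n + 1 + j : ℕ) : ℤ) = -((n : ℤ) + 1 + j) := by push_cast; ring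

variable (k) in
theorem twist_vanish (i : ℕ) (hi : i ≠ n) :
    Subsingleton (Coh.HH (PS ι₀ k) (Twist.twist 𝒮 (-((n + 1 + j : ℕ) : ℤ))) i) := by
  rcases i with _ | p
  · have h := subsingleton_global (ι := ι₀) (R := k) (d := -((n + 1 + j : ℕ) : ℤ))
      (by rw [Fintype.card_fin]; omega) (by omega)
    exact @Equiv.subsingleton _ _
      (Sheaf.H.equiv₀ (Coh.toAb (Twist.twist 𝒮 (-((n + 1 + j : ℕ) : ℤ)))) isTerminalTop).toEquiv h
  · rcases lt_or_gt_of_ne hi with h | h
    · exact subsingleton_HH_pos (ι := ι₀) (R := k) (Or.inl (by rw [Fintype.card_fin]; omega))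
    · refine QCoh.HH_subsingleton_of_cover (n + 1) (fun i => stdU ι₀ k ⟨i⟩)
        (fun i => isAffineOpen_mOpen (single_one_ne_zero i)) ?_ (fun V W hV hW => hV.inf hW)
        (isQCoh_twist_mvPolynomial ι₀ k _) (p + 1) (by omega)
      rw [← iSup_stdU (ι := ι₀) (R := k)]
      exact (Equiv.ulift.iSup_comp (g := fun i : ι₀ => stdU ι₀ k ⟨i⟩)).symm

set_option linter.unusedVariables false in
theorem trH_top (hf : f.1 ≠ 0) :
    trH k (Twist.twist 𝒮 (-((n + 1 + j : ℕ) : ℤ))) (powForm f hf) n =
      trSum (f.1 ^ (Nat.card k - 1)) (Nat.card k - 1) j := by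
  have hsc : IsScal k (Twist.twist 𝒮 (-((n + 1 + j : ℕ) : ℤ))) (powForm f hf) := isScal_subPow _ _
  have key : ∀ (d : ℤ) (hd : d = -((n : ℤ) + 1 + j))
      (φ : Coh.toAb (Twist.twist 𝒮 d) ⟶ Coh.toAb (Twist.twist 𝒮 d)) (hφ : IsScal k (Twist.twist 𝒮 d) φ)
      (G : MvPolynomial ι₀ k)
      (hform : ∀ (g : ι₀ →₀ ℕ) (hg : g ≠ 0) (s : TwSec k d g),
        secTw d g hg (φ.hom.app (op (mOpen k g)) s : TwSec k d g) =
          toLaur ι₀ k G * secTw d g hg s ^ Nat.card k),
      trH k (Twist.twist 𝒮 d) φ n = trSum G (Nat.card k - 1) j := by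
    intro d hd φ hφ G hform
    subst hd
    obtain ⟨e1, h1⟩ := exists_homology_equiv (R := k) (m := n) (k := j)
    obtain ⟨e2, h2⟩ := natCx_H_equiv_natural (U := stdU ι₀ k) iSup_stdU
      (QCoh.stdCovers_sectionClass isAffineOpen_tuple)
      (QCoh.abSheaf (Twist.twist 𝒮 (-((n : ℤ) + 1 + j))))
      (QCoh.stdCovers_acyclic (isQCoh_twist_mvPolynomial ι₀ k (-((n : ℤ) + 1 + j)))) n
    let E : Coh.HH (PS ι₀ k) (Twist.twist 𝒮 (-((n : ℤ) + 1 + j))) n ≃ₗ[k] homogeneousSubmodule ι₀ k j :=
      { e2.symm.trans e1 with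
        map_smul' := fun r x => by
          show e1 (e2.symm (r • x)) = r • e1 (e2.symm x)
          rw [← homology_equiv_smul e1 h1 r (e2.symm x)]
          refine congrArg e1 (e2.symm_apply_eq.2 ?_)
          refine Eq.trans ?_ (h2 (Coh.smulAb (Twist.twist 𝒮 (-((n : ℤ) + 1 + j))) (constTop ι₀ r))
            (e2.symm x)).symm
          exact congrArg _ (e2.apply_symm_apply x).symm }
    have hE : ∀ x, E (Sheaf.H.map φ n x) =
        e1 (HomologicalComplex.homologyMap (natCxMap _ φ.hom) n (e2.symm x)) := fun x => by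
      show e1 (e2.symm (Sheaf.H.map φ n x)) = _
      refine congrArg e1 (e2.symm_apply_eq.2 ?_)
      refine Eq.trans ?_ (h2 φ (e2.symm x)).symm
      exact congrArg _ (e2.apply_symm_apply x).symm
    have hT : ∀ Q : homogeneousSubmodule ι₀ k j, ((E.conj (lin hφ n)) Q).1 =
        botPoly (toLaur ι₀ k G * ofBot Q.1 ^ Nat.card k) := by
      intro Q
      rw [LinearEquiv.conj_apply_apply, lin_apply, hE]
      obtain ⟨z, hz⟩ := (AddCommGrpCat.epi_iff_surjective ((topK k n j).homologyπ n)).1 inferInstance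
        (e2.symm (E.symm Q))
      have hQ : botHom z = Q := by
        rw [← h1, hz]
        exact E.apply_symm_apply Q
      rw [← hz, ← hQ]
      refine (congrArg (fun w => (e1 w).1) (ConcreteCategory.congr_hom
        (HomologicalComplex.homologyπ_naturality (natCxMap _ φ.hom) n) z)).trans ?_
      refine (congrArg Subtype.val (h1 _)).trans ?_
      show botPoly (cochainTw ((topK k n j).iCycles n _ : natCochains _ _ (n + 1)).1 id) = _
      refine (congrArg (fun c => botPoly (cochainTw c id)) (iCycles_cyclesMap φ.hom z)).trans ?_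
      refine (congrArg botPoly (hform _ (tupExp_ne_zero id) _)).trans ?_
      exact botPoly_mul_pow G _
    rw [trH_eq hφ, ← LinearMap.trace_conj' (lin hφ n) E,
      trace_eq_sum_coeff (E.conj (lin hφ n))
        (fun a => coeff (Finsupp.equivFunOnFinite.symm fun i => (Nat.card k - 1) * (a i + 1)) G)
        fun a h => by rw [hT, coeff_diag]]
    rfl
  exact key _ neg_cast _ hsc _ fun g hg s => secTw_powForm f hf hg s

/-- The alternating trace on `O(-D)`. -/
theorem lef_powForm (hf : f.1 ≠ 0) {N : ℕ} (hN : n < N) :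
    lef k (Twist.twist 𝒮 (-((n + 1 + j : ℕ) : ℤ))) (powForm f hf) N =
      (-1) ^ n * trSum (f.1 ^ (Nat.card k - 1)) (Nat.card k - 1) j := by
  rw [lef, Finset.sum_eq_single n (fun i _ hi => ?_) (fun h => absurd (Finset.mem_range.2 hN) h), trH_top]
  haveI := twist_vanish k (j := j) i hi
  rw [trH_subsingleton, mul_zero]

end

end Groth.Agent.ZH85.Trace
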